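import Groth.Agent.Sga4h.BidRed538Geo
import Groth.Agent.UnramA.SmoothFibreDim
import Groth.Agent.Lefpen.H716.CIGeom

/-!
# Relative dimensions over a field

* `unique`: the relative dimension of a smooth morphism to the spectrum of a field is unique.
* `of_comp`: if `q : W ⟶ G` is smooth, `G` has relative dimension `d` and `W` has relative dimension `N` over a field,
  then `q` has relative dimension `N - d`.
* `topologicalKrullDim_eq`: a nonempty scheme smooth of relative dimension `n` over a field has dimension `n`.
-/

set_option autoImplicit false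
universe u
open CategoryTheory CategoryTheory.Limits AlgebraicGeometry TopologicalSpace

namespace K658.RelDimComp

variable {k : Type u} [Field k]

theorem unique {X : Scheme.{u}} (f : X ⟶ Spec (CommRingCat.of k)) (n m : ℕ) (hn : SmoothOfRelativeDimension n f)
    (hm : SmoothOfRelativeDimension m f) (x : X) : n = m := by
  have h1 := Groth.Agent.UnramA.SmoothFibreDim.localDim_eq n f x
  have h2 := Groth.Agent.UnramA.SmoothFibreDim.localDim_eq m f x
  rw [h1] at h2
  exact_mod_cast h2

theorem of_comp {W G : Scheme.{u}} (q : W ⟶ G) (p : G ⟶ Spec (CommRingCat.of k)) [Smooth q] (d N : ℕ)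
    (hd : SmoothOfRelativeDimension d p) (hN : SmoothOfRelativeDimension N (q ≫ p)) [hW : Nonempty W] :
    d ≤ N ∧ SmoothOfRelativeDimension (N - d) q := by
  choose e U hU he using fun w : W => Groth.Agent.Sga4h.BidRed538Geo.exists_relDim q w
  have key : ∀ w, e w + d = N := by
    intro w
    have h1 : SmoothOfRelativeDimension (e w + d) (((U w).ι ≫ q) ≫ p) := inferInstance
    have h2 : SmoothOfRelativeDimension (0 + N) ((U w).ι ≫ (q ≫ p)) := inferInstance
    rw [Category.assoc] at h1
    rw [zero_add] at h2
    exact unique _ _ _ h1 h2 ⟨w, hU w⟩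
  have w₀ : W := Classical.choice hW
  refine ⟨by have := key w₀; omega, ?_⟩
  have hcov : ⨆ w, U w = ⊤ := by
    rw [eq_top_iff]
    intro w _
    exact Opens.mem_iSup.2 ⟨w, hU w⟩
  rw [IsZariskiLocalAtSource.iff_of_iSup_eq_top (P := @SmoothOfRelativeDimension (N - d)) _ hcov]
  intro w
  have h3 : N - d = e w := by have := key w; omega
  rw [h3]
  exact he w

/-- A nonempty scheme smooth of relative dimension `n` over a field has dimension `n`. -/
theorem topologicalKrullDim_eq (n : ℕ) {X : Scheme.{u}} (f : X ⟶ Spec (CommRingCat.of k))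
    [SmoothOfRelativeDimension n f] [hX : Nonempty X] : topologicalKrullDim X = n := by
  apply le_antisymm
  · exact Groth.Agent.Lefpen.H716.CIGeom.topologicalKrullDim_le_of_smooth n f
  · obtain ⟨V, _, _, hd⟩ := Groth.Agent.UnramA.SmoothFibreDim.exists_open_dim_eq n f (Classical.choice hX)
    rw [← hd]
    exact Topology.IsInducing.topologicalKrullDim_le Topology.IsInducing.subtypeVal

end K658.RelDimComp
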