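import Groth.Agent.An.H548.TrdegCore
import Groth.Agent.An.H548.RelDim
import Groth.Agent.SmVar.K658.AffBertini

/-!
# Bertini with a base section and a jet-spanning linear system, affine form

* `not_algebraicIndependent`: dimension count. Let `K / k` have transcendence degree at most `r`, `m i` (`i : Fin n`)
  vectors spanning `K^(r+1)`, `w` a vector, and `a i` elements of an extension `F` of `K` with `∑ a_i m_i + w = 0`. Then
  the `a_i` are algebraically dependent over `k`.
* `exists_polynomial`: let `A` be a smooth algebra over an algebraically closed field `k`, `x i` elements of `A` whose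
  `k`-span surjects onto `A / m^2` for every maximal ideal `m`, and `w` an element of `A`. Then there is a nonzero
  polynomial `G` such that `G(c) ≠ 0` implies that `w + ∑ c_i x_i` is transversal.
-/

set_option autoImplicit false
universe u

open IsLocalRing TensorProduct Algebra KaehlerDifferential

namespace K658.JetCore

theorem not_algebraicIndependent {k K F : Type u} [Field k] [Field K] [Field F] [Algebra k K] [Algebra K F]
    [Algebra k F] [IsScalarTower k K F] (n r : ℕ) (hr : trdeg k K ≤ (r : Cardinal.{u}))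
    (m : Fin n → (Fin (r + 1) → K)) (hm : Submodule.span K (Set.range m) = ⊤) (w : Fin (r + 1) → K)
    (a : Fin n → F) (ha : ∀ j, ∑ i, a i * algebraMap K F (m i j) + algebraMap K F (w j) = 0) :
    ¬ AlgebraicIndependent k a := by
  intro hind
  classical
  let Φ : (Fin n → K) →ₗ[K] (Fin (r + 1) → K) := Fintype.linearCombination K m
  have hΦ : Function.Surjective Φ := by
    rw [← LinearMap.range_eq_top, ← hm]
    exact Fintype.range_linearCombination K m
  obtain ⟨σ, hσ⟩ := Φ.exists_rightInverse_of_surjective (LinearMap.range_eq_top.2 hΦ)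
  have hker : Module.finrank K (LinearMap.ker Φ) + (r + 1) = n := by
    have h1 := LinearMap.finrank_range_add_finrank_ker Φ
    rw [LinearMap.range_eq_top.2 hΦ, finrank_top] at h1
    simp at h1
    omega
  let d := Module.finrank K (LinearMap.ker Φ)
  let ν : Module.Basis (Fin d) K (LinearMap.ker Φ) := Module.finBasis K (LinearMap.ker Φ)
  -- a particular solution
  let y : Fin n → K := σ w
  have hy : ∀ j, ∑ i, y i * m i j = w j := by
    intro j
    have h1 : Φ y = w := LinearMap.congr_fun hσ w
    have h2 := congrFun h1 j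
    simpa [Φ, Fintype.linearCombination_apply, Finset.sum_apply] using h2
  let a' : Fin n → F := fun i => a i + algebraMap K F (y i)
  have ha' : ∀ j, ∑ i, a' i * algebraMap K F (m i j) = 0 := by
    intro j
    rw [← ha j, ← hy j, map_sum, ← Finset.sum_add_distrib]
    refine Finset.sum_congr rfl fun i _ => ?_
    simp only [a', map_mul]; ring
  let e : Fin n → (Fin n → K) := fun i => Pi.single i 1
  have hu : ∀ i, e i - σ (Φ (e i)) ∈ LinearMap.ker Φ := by
    intro i
    rw [LinearMap.mem_ker, map_sub]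
    have : Φ (σ (Φ (e i))) = Φ (e i) := LinearMap.congr_fun hσ (Φ (e i))
    rw [this, sub_self]
  let u : Fin n → LinearMap.ker Φ := fun i => ⟨e i - σ (Φ (e i)), hu i⟩
  let c : Fin d → F := fun l => ∑ i, a' i * algebraMap K F (ν.repr (u i) l)
  have key : ∀ t, a' t = ∑ l, c l * algebraMap K F ((ν l : Fin n → K) t) := by
    intro t
    have h1 : ∀ i, (u i : Fin n → K) t = ∑ l, ν.repr (u i) l * (ν l : Fin n → K) t := by
      intro i
      have h2 := congrArg (fun w : LinearMap.ker Φ => (w : Fin n → K) t) (ν.sum_repr (u i))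
      refine h2.symm.trans ?_
      rw [AddSubmonoidClass.coe_finsetSum, Finset.sum_apply]
      rfl
    have h3 : ∑ l, c l * algebraMap K F ((ν l : Fin n → K) t) =
        ∑ i, a' i * algebraMap K F ((u i : Fin n → K) t) := by
      simp only [c, Finset.sum_mul]
      rw [Finset.sum_comm]
      refine Finset.sum_congr rfl fun i _ => ?_
      rw [h1 i, map_sum, Finset.mul_sum]
      refine Finset.sum_congr rfl fun l _ => ?_
      rw [map_mul]; ring
    rw [h3]
    have h4 : ∀ i, (u i : Fin n → K) t = (if i = t then 1 else 0) - ∑ j, m i j * σ (Pi.single j 1) t := by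
      intro i
      change (e i - σ (Φ (e i))) t = _
      have h5 : Φ (e i) = m i := by
        simp [Φ, e, Fintype.linearCombination_apply]
      have h6 : σ (m i) = ∑ j, m i j • σ (Pi.single j 1) := by
        conv_lhs => rw [pi_eq_sum_univ' (m i)]
        rw [map_sum]
        refine Finset.sum_congr rfl fun j _ => ?_
        rw [map_smul]
      rw [h5, h6]
      simp [e, Pi.single_apply, Finset.sum_apply, eq_comm]
    simp only [h4, map_sub, mul_sub, Finset.sum_sub_distrib]
    have h7 : ∑ i, a' i * algebraMap K F (∑ j, m i j * σ (Pi.single j 1) t) = 0 := by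
      have h8 : ∀ i, a' i * algebraMap K F (∑ j, m i j * σ (Pi.single j 1) t) =
          ∑ j, (a' i * algebraMap K F (m i j)) * algebraMap K F (σ (Pi.single j 1) t) := by
        intro i
        rw [map_sum, Finset.mul_sum]
        refine Finset.sum_congr rfl fun j _ => ?_
        rw [map_mul]; ring
      simp only [h8]
      rw [Finset.sum_comm]
      refine Finset.sum_eq_zero fun j _ => ?_
      rw [← Finset.sum_mul, ha' j, zero_mul]
    rw [h7, sub_zero]
    simp
  let L := IntermediateField.adjoin K (Set.range c)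
  have hc : ∀ l, c l ∈ L := fun l => IntermediateField.subset_adjoin K _ ⟨l, rfl⟩
  have haL' : ∀ t, a' t ∈ L := by
    intro t
    rw [key t]
    exact sum_mem fun l _ => mul_mem (hc l) (L.algebraMap_mem _)
  have haL : ∀ t, a t ∈ L := by
    intro t
    have h1 : a t = a' t - algebraMap K F (y t) := by simp [a']
    rw [h1]
    exact sub_mem (haL' t) (L.algebraMap_mem _)
  let b : Fin n → L := fun t => ⟨_, haL t⟩
  have hb : AlgebraicIndependent k b := by
    have h1 : AlgebraicIndependent k ((L.val.restrictScalars k) ∘ b) := hind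
    exact h1.of_comp _
  have h1 := hb.lift_cardinalMk_le_trdeg
  have h2 : trdeg k K + trdeg K L = trdeg k L := trdeg_add_eq k K
  have h3 : trdeg K L ≤ (d : Cardinal.{u}) := by
    refine (Groth.Agent.An.H548.TrdegCore.trdeg_adjoin_le (Set.range c)).trans ?_
    refine (Cardinal.mk_range_le_lift (f := c)).trans' ?_ |>.trans ?_
    all_goals simp
  have h4 : trdeg k L ≤ ((r + d : ℕ) : Cardinal.{u}) := by
    rw [← h2]; push_cast; exact add_le_add hr h3
  rw [Cardinal.mk_fin] at h1
  simp only [Cardinal.lift_natCast] at h1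
  have h5 := h1.trans (Cardinal.lift_le.2 h4)
  simp only [Cardinal.lift_natCast, Nat.cast_le] at h5
  omega

section Chart

variable {k : Type u} [Field k] {E : Type u} [CommRing E] [Algebra k E] {n r : ℕ}

/-- The ideal of `E[a_1, …, a_n]` of the equations `∑ a_i m_i + w = 0`. -/
noncomputable def badIdeal (m : Fin n → (Fin (r + 1) → E)) (w : Fin (r + 1) → E) : Ideal (MvPolynomial (Fin n) E) :=
  Ideal.span (Set.range fun j : Fin (r + 1) =>
    ∑ i, MvPolynomial.X i * MvPolynomial.C (m i j) + MvPolynomial.C (w j))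

abbrev BadRing (m : Fin n → (Fin (r + 1) → E)) (w : Fin (r + 1) → E) : Type u :=
  MvPolynomial (Fin n) E ⧸ badIdeal m w

/-- The universal point. -/
noncomputable def uPt (m : Fin n → (Fin (r + 1) → E)) (w : Fin (r + 1) → E) : Fin n → BadRing m w :=
  fun i => Ideal.Quotient.mk _ (MvPolynomial.X i)

theorem not_injective (m : Fin n → (Fin (r + 1) → E)) (w : Fin (r + 1) → E)
    (hm : Submodule.span E (Set.range m) = ⊤)
    (htr : ∀ (p : Ideal E) [p.IsPrime], Algebra.trdeg k p.ResidueField ≤ (r : Cardinal.{u})) :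
    ¬ Function.Injective (MvPolynomial.aeval (uPt m w) : MvPolynomial (Fin n) k →ₐ[k] BadRing m w) := by
  intro hinj
  obtain ⟨P, hP, hPc⟩ := Ideal.exists_comap_eq_of_mem_minimalPrimes_of_injective
    (f := (MvPolynomial.aeval (uPt m w) : MvPolynomial (Fin n) k →ₐ[k] BadRing m w).toRingHom) hinj ⊥
    (by rw [IsDomain.minimalPrimes_eq_singleton_bot]; rfl)
  let p : Ideal E := P.under E
  let K := p.ResidueField
  let F := P.ResidueField
  let fKF : K →ₐ[k] F := Ideal.ResidueField.mapₐ p P (IsScalarTower.toAlgHom k E (BadRing m w)) rfl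
  let _ : Algebra K F := fKF.toRingHom.toAlgebra
  have htow : IsScalarTower k K F := IsScalarTower.of_algebraMap_eq' fKF.comp_algebraMap.symm
  have hEKF : ∀ e : E, algebraMap K F (algebraMap E K e) =
      algebraMap (BadRing m w) F (Ideal.Quotient.mk _ (MvPolynomial.C e)) := by
    intro e
    have h1 : fKF (algebraMap E K e) = algebraMap (BadRing m w) F
        ((IsScalarTower.toAlgHom k E (BadRing m w)).toRingHom e) :=
      Ideal.ResidueField.map_algebraMap p P _ rfl e
    exact h1
  let m' : Fin n → (Fin (r + 1) → K) := fun i j => algebraMap E K (m i j)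
  let w' : Fin (r + 1) → K := fun j => algebraMap E K (w j)
  let a : Fin n → F := fun i => algebraMap (BadRing m w) F (Ideal.Quotient.mk _ (MvPolynomial.X i))
  have hm' : Submodule.span K (Set.range m') = ⊤ := by
    rw [_root_.eq_top_iff, ← (Pi.basisFun K (Fin (r + 1))).span_eq, Submodule.span_le]
    rintro _ ⟨j, rfl⟩
    rw [Pi.basisFun_apply]
    have h1 : (Pi.single j 1 : Fin (r + 1) → E) ∈ Submodule.span E (Set.range m) := by rw [hm]; trivial
    rw [Submodule.mem_span_range_iff_exists_fun] at h1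
    obtain ⟨c, hc⟩ := h1
    have h2 : (Pi.single j 1 : Fin (r + 1) → K) = ∑ i, algebraMap E K (c i) • m' i := by
      ext l
      have h3 := congrArg (fun z => algebraMap E K (z l)) hc
      simp only [Finset.sum_apply, Pi.smul_apply, smul_eq_mul, map_sum, map_mul] at h3
      simp only [Finset.sum_apply, Pi.smul_apply, smul_eq_mul, m']
      rw [h3]
      by_cases hjl : j = l
      · subst hjl; simp
      · rw [Pi.single_eq_of_ne (Ne.symm hjl), Pi.single_eq_of_ne (Ne.symm hjl), map_zero]
    rw [h2]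
    exact sum_mem fun i _ => Submodule.smul_mem _ _ (Submodule.subset_span ⟨i, rfl⟩)
  have ha : ∀ j, ∑ i, a i * algebraMap K F (m' i j) + algebraMap K F (w' j) = 0 := by
    intro j
    simp only [a, m', w', hEKF, ← map_mul, ← map_sum, ← map_add]
    rw [Ideal.Quotient.eq_zero_iff_mem.2, map_zero]
    exact Ideal.subset_span ⟨j, rfl⟩
  refine not_algebraicIndependent n r (htr p) m' hm' w' a ha ?_
  rw [algebraicIndependent_iff_injective_aeval]
  have h1 : a = fun t => algebraMap (BadRing m w) F (uPt m w t) := rfl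
  rw [h1]
  rw [injective_iff_map_eq_zero]
  intro g hg
  have h2 : algebraMap (BadRing m w) F (MvPolynomial.aeval (uPt m w) g) = 0 := by
    rw [← hg]
    have h3 := MvPolynomial.comp_aeval_apply (R := k) (uPt m w) (IsScalarTower.toAlgHom k (BadRing m w) F) g
    exact h3
  rw [Ideal.algebraMap_residueField_eq_zero] at h2
  have h3 : g ∈ (⊥ : Ideal (MvPolynomial (Fin n) k)) := by
    rw [← hPc]; exact h2
  exact h3

theorem exists_equation (m : Fin n → (Fin (r + 1) → E)) (w : Fin (r + 1) → E)
    (hm : Submodule.span E (Set.range m) = ⊤)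
    (htr : ∀ (p : Ideal E) [p.IsPrime], Algebra.trdeg k p.ResidueField ≤ (r : Cardinal.{u})) :
    ∃ g : MvPolynomial (Fin n) k, g ≠ 0 ∧ ∀ (p : Ideal E) [p.IsPrime] (a : Fin n → k),
      (∀ j, ∑ i, algebraMap k E (a i) * m i j + w j ∈ p) → MvPolynomial.eval a g = 0 := by
  have h1 := not_injective (k := k) m w hm htr
  rw [injective_iff_map_eq_zero] at h1
  push Not at h1
  obtain ⟨g, hg, hg0⟩ := h1
  refine ⟨g, hg0, fun p _ a ha => ?_⟩
  let K := p.ResidueField
  let ev : MvPolynomial (Fin n) E →+* K :=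
    MvPolynomial.eval₂Hom (algebraMap E K) (fun i => algebraMap k K (a i))
  have hev : ∀ z ∈ badIdeal m w, ev z = 0 := by
    intro z hz
    have : badIdeal m w ≤ RingHom.ker ev := by
      rw [badIdeal, Ideal.span_le]
      rintro _ ⟨j, rfl⟩
      change ev _ = 0
      simp only [ev, map_sum, map_mul, map_add, MvPolynomial.eval₂Hom_X', MvPolynomial.eval₂Hom_C]
      have h2 : algebraMap E K (∑ i, algebraMap k E (a i) * m i j + w j) = 0 :=
        Ideal.algebraMap_residueField_eq_zero.2 (ha j)
      rw [map_add, map_sum] at h2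
      rw [← h2]
      congr 1
      refine Finset.sum_congr rfl fun i _ => ?_
      rw [map_mul, ← IsScalarTower.algebraMap_apply]
    exact this hz
  let φ : BadRing m w →+* K := Ideal.Quotient.lift _ ev hev
  have hφ : φ.comp (MvPolynomial.aeval (uPt m w) : MvPolynomial (Fin n) k →ₐ[k] BadRing m w).toRingHom =
      (algebraMap k K).comp (MvPolynomial.eval a) := by
    apply MvPolynomial.ringHom_ext
    · intro c
      have h2 : (MvPolynomial.aeval (uPt m w) : MvPolynomial (Fin n) k →ₐ[k] BadRing m w)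
          (MvPolynomial.C c) = Ideal.Quotient.mk _ (MvPolynomial.C (algebraMap k E c)) := by
        rw [MvPolynomial.aeval_C]; rfl
      change φ (MvPolynomial.aeval (uPt m w) (MvPolynomial.C c)) = algebraMap k K (MvPolynomial.eval a (MvPolynomial.C c))
      rw [h2, MvPolynomial.eval_C]
      change ev (MvPolynomial.C (algebraMap k E c)) = _
      simp only [ev, MvPolynomial.eval₂Hom_C]
      exact (IsScalarTower.algebraMap_apply k E K c).symm
    · intro t
      change φ (MvPolynomial.aeval (uPt m w) (MvPolynomial.X t)) = algebraMap k K (MvPolynomial.eval a (MvPolynomial.X t))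
      rw [MvPolynomial.aeval_X, MvPolynomial.eval_X]
      change ev (MvPolynomial.X t) = _
      simp only [ev, MvPolynomial.eval₂Hom_X']
  have h2 := congrArg (fun f => f g) hφ
  change φ (MvPolynomial.aeval (uPt m w) g) = algebraMap k K (MvPolynomial.eval a g) at h2
  rw [hg, map_zero] at h2
  exact (algebraMap k K).injective (by rw [← h2, map_zero])

end Chart

/-- A submodule of a finite module which is everything modulo every maximal ideal is everything. -/
theorem eq_top_of_sup {E M : Type*} [CommRing E] [AddCommGroup M] [Module E M] [Module.Finite E M]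
    (N : Submodule E M) (h : ∀ (𝔪 : Ideal E), 𝔪.IsMaximal → N ⊔ 𝔪 • (⊤ : Submodule E M) = ⊤) : N = ⊤ := by
  by_contra hN
  have hann : Module.annihilator E (M ⧸ N) ≠ ⊤ := by
    intro h1
    apply hN
    rw [← Submodule.Quotient.subsingleton_iff]
    refine ⟨fun a b => ?_⟩
    have h2 : (1 : E) ∈ Module.annihilator E (M ⧸ N) := by rw [h1]; trivial
    rw [Module.mem_annihilator] at h2
    have h3 := h2 (a - b)
    rw [one_smul] at h3
    exact sub_eq_zero.1 h3
  obtain ⟨𝔪, h𝔪, hle⟩ := Ideal.exists_le_maximal _ hann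
  have h1 : (⊤ : Submodule E (M ⧸ N)) ≤ 𝔪 • (⊤ : Submodule E (M ⧸ N)) := by
    have h2 := congrArg (Submodule.map N.mkQ) (h 𝔪 h𝔪)
    rw [Submodule.map_sup, Submodule.mkQ_map_self, bot_sup_eq, Submodule.map_smul'', Submodule.map_top,
      Submodule.range_mkQ] at h2
    rw [h2]
  obtain ⟨r, hr1, hr2⟩ := Submodule.exists_sub_one_mem_and_smul_eq_zero_of_fg_of_le_smul 𝔪 ⊤
    (Module.Finite.fg_top (R := E) (M := M ⧸ N)) h1
  have h3 : r ∈ 𝔪 := hle (Module.mem_annihilator.2 fun z => hr2 z trivial)
  have h4 : (1 : E) ∈ 𝔪 := by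
    have := 𝔪.sub_mem h3 hr1
    simpa using this
  exact h𝔪.ne_top ((Ideal.eq_top_iff_one _).2 h4)

section Jet

variable {k : Type u} [Field k] {E : Type u} [CommRing E] [Algebra k E] {n r : ℕ}

/-- The jet of an element in terms of a basis of the differentials. -/
noncomputable def jet (b : Module.Basis (Fin r) E Ω[E⁄k]) (z : E) : Fin (r + 1) → E :=
  Fin.cons z fun j => b.repr (D k E z) j

theorem jet_add (b : Module.Basis (Fin r) E Ω[E⁄k]) (z z' : E) : jet b (z + z') = jet b z + jet b z' := by
  ext j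
  refine Fin.cases ?_ (fun i => ?_) j <;> simp [jet]

theorem jet_smul (b : Module.Basis (Fin r) E Ω[E⁄k]) (c : k) (z : E) :
    jet b (algebraMap k E c * z) = algebraMap k E c • jet b z := by
  ext j
  refine Fin.cases ?_ (fun i => ?_) j
  · simp [jet]
  · simp only [jet, Fin.cons_succ, Derivation.leibniz, Derivation.map_algebraMap, smul_zero, add_zero, map_smul,
      Finsupp.smul_apply, Pi.smul_apply]

theorem jet_sum (b : Module.Basis (Fin r) E Ω[E⁄k]) {ι : Type*} (s : Finset ι) (f : ι → E) :
    jet b (∑ i ∈ s, f i) = ∑ i ∈ s, jet b (f i) := by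
  classical
  induction s using Finset.induction_on with
  | empty =>
    ext j
    refine Fin.cases ?_ (fun i => ?_) j <;> simp [jet]
  | insert a s ha ih => rw [Finset.sum_insert ha, Finset.sum_insert ha, jet_add, ih]

theorem jet_mul (b : Module.Basis (Fin r) E Ω[E⁄k]) (y z : E) :
    jet b (y * z) = y • jet b z + z • jet b y - Pi.single 0 (y * z) := by
  ext j
  refine Fin.cases ?_ (fun i => ?_) j
  · simp only [jet, Fin.cons_zero, Pi.sub_apply, Pi.add_apply, Pi.smul_apply, smul_eq_mul, Pi.single_eq_same]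
    ring
  · simp only [jet, Fin.cons_succ, Pi.sub_apply, Pi.add_apply, Pi.smul_apply, Derivation.leibniz, map_add, map_smul,
      Finsupp.add_apply, Finsupp.smul_apply, ne_eq, Fin.succ_ne_zero, not_false_eq_true, Pi.single_eq_of_ne, sub_zero]

theorem jet_mem_of_sq (b : Module.Basis (Fin r) E Ω[E⁄k]) (𝔪 : Ideal E) (z : E) (hz : z ∈ 𝔪 ^ 2) :
    jet b z ∈ 𝔪 • (⊤ : Submodule E (Fin (r + 1) → E)) := by
  rw [pow_two] at hz
  refine Submodule.mul_induction_on hz (fun a ha c hc => ?_) (fun a c ha hc => ?_)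
  · rw [jet_mul]
    refine sub_mem (add_mem ?_ ?_) ?_
    · exact Submodule.smul_mem_smul ha trivial
    · exact Submodule.smul_mem_smul hc trivial
    · have h1 : (Pi.single 0 (a * c) : Fin (r + 1) → E) = a • Pi.single 0 c := by
        rw [← Pi.single_smul, smul_eq_mul]
      rw [h1]
      exact Submodule.smul_mem_smul ha trivial
  · rw [jet_add]; exact add_mem ha hc

/-- At a maximal ideal with residue field `k`, every vector is the jet of an element. -/
theorem exists_jet (b : Module.Basis (Fin r) E Ω[E⁄k]) (𝔪 : Ideal E)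
    (h𝔪 : ∀ z : E, ∃ c : k, z - algebraMap k E c ∈ 𝔪) (v : Fin (r + 1) → E) :
    ∃ z : E, v - jet b z ∈ 𝔪 • (⊤ : Submodule E (Fin (r + 1) → E)) := by
  classical
  -- the differentials
  have key : ∀ ω : Ω[E⁄k], ∃ z ∈ 𝔪, ω - D k E z ∈ 𝔪 • (⊤ : Submodule E Ω[E⁄k]) := by
    intro ω
    have h1 : ω ∈ Submodule.span E (Set.range (D k E)) := by
      rw [KaehlerDifferential.span_range_derivation]; trivial
    induction h1 using Submodule.span_induction with
    | mem x hx =>
      obtain ⟨y, rfl⟩ := hx
      obtain ⟨c, hc⟩ := h𝔪 y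
      refine ⟨y - algebraMap k E c, hc, ?_⟩
      rw [map_sub, Derivation.map_algebraMap, sub_zero, sub_self]
      exact zero_mem _
    | zero => exact ⟨0, zero_mem _, by rw [map_zero, sub_zero]; exact zero_mem _⟩
    | add x y _ _ hx hy =>
      obtain ⟨z, hz, hzx⟩ := hx
      obtain ⟨z', hz', hzy⟩ := hy
      refine ⟨z + z', add_mem hz hz', ?_⟩
      rw [map_add, add_sub_add_comm]
      exact add_mem hzx hzy
    | smul a x _ hx =>
      obtain ⟨z, hz, hzx⟩ := hx
      obtain ⟨c, hc⟩ := h𝔪 a
      refine ⟨algebraMap k E c * z, Ideal.mul_mem_left _ _ hz, ?_⟩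
      have h2 : a • x - D k E (algebraMap k E c * z) =
          (a - algebraMap k E c) • x + algebraMap k E c • (x - D k E z) := by
        rw [Derivation.leibniz, Derivation.map_algebraMap, smul_zero, add_zero, sub_smul, smul_sub]
        abel
      rw [h2]
      exact add_mem (Submodule.smul_mem_smul hc trivial) (Submodule.smul_mem _ _ hzx)
  obtain ⟨c, hc⟩ := h𝔪 (v 0)
  obtain ⟨z, hz, hzω⟩ := key (∑ j : Fin r, v j.succ • b j)
  refine ⟨algebraMap k E c + z, ?_⟩
  rw [show 𝔪 • (⊤ : Submodule E (Fin (r + 1) → E)) = 𝔪 • (⊤ : Submodule E (Fin (r + 1) → E)) from rfl]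
  have hmem : ∀ u : Fin (r + 1) → E, (∀ j, u j ∈ 𝔪) → u ∈ 𝔪 • (⊤ : Submodule E (Fin (r + 1) → E)) := by
    intro u hu
    rw [pi_eq_sum_univ' u]
    exact sum_mem fun j _ => Submodule.smul_mem_smul (hu j) trivial
  have hmem' : ∀ ω ∈ 𝔪 • (⊤ : Submodule E Ω[E⁄k]), ∀ j, b.repr ω j ∈ 𝔪 := by
    intro ω hω j
    refine Submodule.smul_induction_on hω (fun a ha x _ => ?_) (fun x y hx hy => ?_)
    · rw [map_smul, Finsupp.smul_apply, smul_eq_mul]; exact Ideal.mul_mem_right _ _ ha
    · rw [map_add, Finsupp.add_apply]; exact add_mem hx hy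
  apply hmem
  intro j
  refine Fin.cases ?_ (fun i => ?_) j
  · simp only [jet, Pi.sub_apply, Fin.cons_zero]
    rw [← sub_sub]
    exact sub_mem hc hz
  · simp only [jet, Pi.sub_apply, Fin.cons_succ]
    have h2 := hmem' _ hzω i
    rw [map_sub, Finsupp.sub_apply, map_sum, Finsupp.finsetSum_apply] at h2
    have h3 : ∑ l : Fin r, (b.repr (v l.succ • b l)) i = v i.succ := by
      simp only [map_smul, Module.Basis.repr_self, Finsupp.smul_apply, smul_eq_mul, Finsupp.single_apply, mul_ite,
        mul_one, mul_zero, Finset.sum_ite_eq', Finset.mem_univ, if_true]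
    rw [h3] at h2
    rw [map_add, Derivation.map_algebraMap, zero_add]
    exact h2

/-- The jets of elements spanning `E / 𝔪^2` for all `𝔪` generate. -/
theorem span_jet (b : Module.Basis (Fin r) E Ω[E⁄k]) (x : Fin n → E)
    (h𝔪 : ∀ (𝔪 : Ideal E), 𝔪.IsMaximal → ∀ z : E, ∃ c : k, z - algebraMap k E c ∈ 𝔪)
    (hx : ∀ (𝔪 : Ideal E), 𝔪.IsMaximal → ∀ l : E, ∃ c : Fin n → k, (∑ i, algebraMap k E (c i) * x i) - l ∈ 𝔪 ^ 2) :
    Submodule.span E (Set.range fun i => jet b (x i)) = ⊤ := by
  refine eq_top_of_sup _ fun 𝔪 hmax => ?_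
  rw [_root_.eq_top_iff]
  intro v _
  obtain ⟨z, hz⟩ := exists_jet b 𝔪 (h𝔪 𝔪 hmax) v
  obtain ⟨c, hc⟩ := hx 𝔪 hmax z
  have h1 := jet_mem_of_sq b 𝔪 _ hc
  have h2 : jet b ((∑ i, algebraMap k E (c i) * x i) - z) = (∑ i, algebraMap k E (c i) • jet b (x i)) - jet b z := by
    have h3 := jet_add b ((∑ i, algebraMap k E (c i) * x i) - z) z
    rw [sub_add_cancel, jet_sum] at h3
    simp only [jet_smul] at h3
    rw [h3, add_sub_cancel_right]
  rw [h2] at h1
  have h4 : v = (∑ i, algebraMap k E (c i) • jet b (x i)) +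
      ((v - jet b z) - ((∑ i, algebraMap k E (c i) • jet b (x i)) - jet b z)) := by abel
  rw [h4]
  exact Submodule.add_mem_sup (sum_mem fun i _ => Submodule.smul_mem _ _ (Submodule.subset_span ⟨i, rfl⟩))
    (sub_mem hz h1)

end Jet

/-- Over an algebraically closed field, the residue fields at maximal ideals are the base field. -/
theorem exists_sub_mem {k : Type u} [Field k] [IsAlgClosed k] {E : Type u} [CommRing E] [Algebra k E]
    [Algebra.FiniteType k E] (𝔪 : Ideal E) (h𝔪 : 𝔪.IsMaximal) (z : E) : ∃ c : k, z - algebraMap k E c ∈ 𝔪 := by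
  let _ : Field (E ⧸ 𝔪) := Ideal.Quotient.field 𝔪
  have hft : Algebra.FiniteType k (E ⧸ 𝔪) := inferInstance
  have hfin : Module.Finite k (E ⧸ 𝔪) := finite_of_finite_type_of_isJacobsonRing k (E ⧸ 𝔪)
  have hint : Algebra.IsIntegral k (E ⧸ 𝔪) := inferInstance
  obtain ⟨c, hc⟩ := (IsAlgClosed.algebraMap_bijective_of_isIntegral (k := k) (K := E ⧸ 𝔪)).2 (Ideal.Quotient.mk 𝔪 z)
  refine ⟨c, ?_⟩
  rw [← Ideal.Quotient.eq_zero_iff_mem, map_sub, ← hc, sub_eq_zero]
  rfl

/-- The general member of a linear system translated by a base section, when the linear system generates the jets at all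
maximal ideals. -/
theorem exists_polynomial {k : Type u} [Field k] [IsAlgClosed k] {A : Type u} [CommRing A] [Algebra k A]
    [Algebra.Smooth k A] (n : ℕ) (x : Fin n → A) (w : A)
    (hx : ∀ (𝔪 : Ideal A), 𝔪.IsMaximal → ∀ l : A, ∃ c : Fin n → k, (∑ i, algebraMap k A (c i) * x i) - l ∈ 𝔪 ^ 2) :
    ∃ G : MvPolynomial (Fin n) k, G ≠ 0 ∧ ∀ (c : Fin n → k), MvPolynomial.eval c G ≠ 0 →
      AffBertini.Transv k (w + ∑ i, algebraMap k A (c i) * x i) := by
  classical
  have hNA : IsNoetherianRing A := Algebra.FiniteType.isNoetherianRing k A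
  let 𝒢 : Set A := {g | ∃ r, (algebraMap k (Localization.Away g)).IsStandardSmoothOfRelativeDimension r}
  have h𝒢 : Ideal.span 𝒢 = ⊤ := by
    by_contra hne
    obtain ⟨p, hp, hle⟩ := Ideal.exists_le_maximal _ hne
    have hpp : p.IsPrime := hp.isPrime
    have h1 : Algebra.IsSmoothAt k p := by
      have h2 : (⟨p, inferInstance⟩ : PrimeSpectrum A) ∈ Algebra.smoothLocus k A := by
        rw [Algebra.smoothLocus_eq_univ]; trivial
      exact h2
    obtain ⟨g, hg, hsm⟩ := Algebra.IsSmoothAt.exists_notMem_isStandardSmooth k p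
    obtain ⟨_, _, _, _, ⟨P⟩⟩ := hsm
    refine hg (hle (Ideal.subset_span ⟨P.dimension, ?_⟩))
    rw [RingHom.isStandardSmoothOfRelativeDimension_algebraMap]
    exact ⟨_, _, _, ‹_›, P, rfl⟩
  obtain ⟨T, hT𝒢, hTs⟩ : ∃ T : Finset A, (T : Set A) ⊆ 𝒢 ∧ Ideal.span 𝒢 = Ideal.span (T : Set A) := by
    exact Submodule.fg_span_iff_fg_span_finset_subset 𝒢 |>.1 (IsNoetherian.noetherian _)
  have key : ∀ g ∈ 𝒢, ∃ G : MvPolynomial (Fin n) k, G ≠ 0 ∧ ∀ (p : Ideal A) [p.IsPrime]
      (a : Fin n → k), g ∉ p →
      (w + ∑ i, algebraMap k A (a i) * x i) ∈ p →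
      (1 : p.ResidueField) ⊗ₜ[A] D k A (w + ∑ i, algebraMap k A (a i) * x i) = 0 →
      MvPolynomial.eval a G = 0 := by
    rintro g ⟨r, hg⟩
    let E := Localization.Away g
    rcases subsingleton_or_nontrivial E with hE | hE
    · refine ⟨1, one_ne_zero, fun p _ a hgp _ _ => ?_⟩
      exfalso
      have h1 : (0 : A) ∈ Submonoid.powers g := (IsLocalization.subsingleton_iff (S := E)).1 hE
      obtain ⟨m, hm⟩ := h1
      exact hgp (Ideal.IsPrime.mem_of_pow_mem inferInstance m (by rw [show g ^ m = 0 from hm]; exact zero_mem p))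
    have hss' := hg
    rw [RingHom.isStandardSmoothOfRelativeDimension_algebraMap] at hss'
    have hss : Algebra.IsStandardSmooth k E := hss'.isStandardSmooth r
    have hfr : Module.Free E Ω[E⁄k] := inferInstance
    have hsm : Algebra.Smooth k E := inferInstance
    have hfi : Module.Finite E Ω[E⁄k] := inferInstance
    have hrk : Module.finrank E Ω[E⁄k] = r := Module.finrank_eq_of_rank_eq hss'.rank_kaehlerDifferential
    let b : Module.Basis (Fin r) E Ω[E⁄k] := (Module.finBasis E Ω[E⁄k]).reindex (finCongr hrk)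
    let x' : Fin n → E := fun i => algebraMap A E (x i)
    have hx' : ∀ (𝔪 : Ideal E), 𝔪.IsMaximal → ∀ l : E, ∃ c : Fin n → k,
        (∑ i, algebraMap k E (c i) * x' i) - l ∈ 𝔪 ^ 2 := by
      intro 𝔫 h𝔫 l
      have hJ : IsJacobsonRing A := isJacobsonRing_of_finiteType (A := k)
      obtain ⟨h𝔪, hg𝔪⟩ := (IsLocalization.isMaximal_iff_isMaximal_disjoint (S := E) g 𝔫).1 h𝔫
      let 𝔪 : Ideal A := 𝔫.under A
      obtain ⟨⟨a, s⟩, hl⟩ := IsLocalization.surj (Submonoid.powers g) l
      -- an inverse of `s` modulo `𝔪 ^ 2`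
      have hs : (s : A) ∉ 𝔪 := by
        obtain ⟨m, hm⟩ := s.2
        intro hs
        rw [← show g ^ m = (s : A) from hm] at hs
        exact hg𝔪 (h𝔪.isPrime.mem_of_pow_mem m hs)
      have hcop : Ideal.span {(s : A)} ⊔ 𝔪 ^ 2 = ⊤ := by
        have h1 : Ideal.span {(s : A)} ⊔ 𝔪 = ⊤ := by
          refine h𝔪.out.2 _ (lt_of_le_of_ne le_sup_right fun h => hs ?_)
          have h5 : (s : A) ∈ Ideal.span {(s : A)} ⊔ 𝔪 := Ideal.mem_sup_left (Ideal.mem_span_singleton_self _)
          exact h.ge h5
        exact Ideal.sup_pow_eq_top h1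
      have h1 : (1 : A) ∈ Ideal.span {(s : A)} ⊔ 𝔪 ^ 2 := by rw [hcop]; trivial
      obtain ⟨y, hy, z, hz, hyz⟩ := Submodule.mem_sup.1 h1
      obtain ⟨h, rfl⟩ := Ideal.mem_span_singleton'.1 hy
      obtain ⟨c, hc⟩ := hx 𝔪 h𝔪 (a * h)
      refine ⟨c, ?_⟩
      have hmap : ∀ t ∈ 𝔪 ^ 2, algebraMap A E t ∈ 𝔫 ^ 2 := by
        intro t ht
        have h2 : (𝔪 ^ 2).map (algebraMap A E) ≤ 𝔫 ^ 2 := by
          rw [Ideal.map_pow]
          exact Ideal.pow_right_mono (Ideal.map_le_iff_le_comap.2 le_rfl) 2
        exact h2 (Ideal.mem_map_of_mem _ ht)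
      have h2 : (∑ i, algebraMap k E (c i) * x' i) - l =
          algebraMap A E ((∑ i, algebraMap k A (c i) * x i) - a * h) - l * algebraMap A E z := by
        have h3 : algebraMap A E (a * h) = l - l * algebraMap A E z := by
          rw [map_mul, ← hl, mul_assoc, ← map_mul, show (s : A) * h = 1 - z by rw [← hyz]; ring, map_sub, map_one]
          ring
        rw [map_sub, h3, map_sum]
        have h4 : ∀ i, algebraMap k E (c i) * x' i = algebraMap A E (algebraMap k A (c i) * x i) := by
          intro i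
          rw [map_mul, ← IsScalarTower.algebraMap_apply]
        simp only [h4]
        ring
      rw [h2]
      exact sub_mem (hmap _ hc) (Ideal.mul_mem_left _ _ (hmap _ hz))
    have hspan := span_jet b x' (fun 𝔪 h𝔪 z => exists_sub_mem 𝔪 h𝔪 z) hx'
    obtain ⟨G, hG0, hG⟩ := exists_equation (k := k) (fun i => jet b (x' i)) (jet b (algebraMap A E w)) hspan
      (fun p _ => Groth.Agent.An.H548.RelDim.trdeg_residueField_le r hg p)
    refine ⟨G, hG0, fun p _ a hgp hap hd => ?_⟩
    have hdis : Disjoint (Submonoid.powers g : Set A) (p : Set A) := by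
      rw [Set.disjoint_left]
      rintro _ ⟨k, rfl⟩ hk
      exact hgp (Ideal.IsPrime.mem_of_pow_mem inferInstance k hk)
    let q : Ideal E := p.map (algebraMap A E)
    have hqp : q.IsPrime := IsLocalization.isPrime_of_isPrime_disjoint (Submonoid.powers g) E p inferInstance hdis
    have hqc : p = q.comap (algebraMap A E) :=
      (IsLocalization.under_map_of_isPrime_disjoint (Submonoid.powers g) E inferInstance hdis).symm
    have hjet : jet b (algebraMap A E (w + ∑ i, algebraMap k A (a i) * x i)) =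
        ∑ i, algebraMap k E (a i) • jet b (x' i) + jet b (algebraMap A E w) := by
      rw [map_add, jet_add, map_sum, jet_sum, add_comm (jet b ((algebraMap A E) w))]
      congr 1
      refine Finset.sum_congr rfl fun i _ => ?_
      rw [map_mul, ← IsScalarTower.algebraMap_apply, jet_smul]
    have hD : (1 : q.ResidueField) ⊗ₜ[E] D k E (algebraMap A E (w + ∑ i, algebraMap k A (a i) * x i)) = 0 := by
      let fK : p.ResidueField →ₐ[A] q.ResidueField := Ideal.ResidueField.mapₐ p q (Algebra.ofId A E) hqc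
      let M1 : p.ResidueField ⊗[A] Ω[A⁄k] →ₗ[A] q.ResidueField ⊗[A] Ω[E⁄k] :=
        TensorProduct.map fK.toLinearMap (KaehlerDifferential.map k k A E)
      let M2 := TensorProduct.mapOfCompatibleSMul E A A q.ResidueField Ω[E⁄k]
      have h1 := congrArg (fun w => M2 (M1 w)) hd
      simp only [map_zero] at h1
      rw [← h1]
      simp only [M1, M2, TensorProduct.map_tmul, TensorProduct.mapOfCompatibleSMul_tmul, KaehlerDifferential.map_D]
      congr 1
      exact (map_one fK).symm
    refine hG q a fun j => ?_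
    have h2 : ∑ i, algebraMap k E (a i) * jet b (x' i) j + jet b (algebraMap A E w) j =
        jet b (algebraMap A E (w + ∑ i, algebraMap k A (a i) * x i)) j := by
      rw [hjet, Pi.add_apply, Finset.sum_apply]
      rfl
    rw [h2]
    refine Fin.cases ?_ (fun l => ?_) j
    · simp only [jet, Fin.cons_zero]
      exact Ideal.mem_map_of_mem _ hap
    · simp only [jet, Fin.cons_succ]
      have h3 := congrArg (fun w => (b.baseChange q.ResidueField).repr w l) hD
      simp only [Module.Basis.baseChange_repr_tmul, map_zero, Finsupp.zero_apply] at h3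
      rw [Algebra.smul_def, mul_one] at h3
      exact Ideal.algebraMap_residueField_eq_zero.1 h3
  choose! G hG0 hG using key
  refine ⟨∏ g ∈ T, G g, Finset.prod_ne_zero_iff.2 fun g hg => hG0 g (hT𝒢 hg), fun a ha p hp hap hd => ?_⟩
  obtain ⟨g, hgT, hgp⟩ : ∃ g ∈ T, g ∉ p := by
    by_contra hcon
    push Not at hcon
    have h1 : Ideal.span 𝒢 ≤ p := by rw [hTs, Ideal.span_le]; exact hcon
    rw [h𝒢] at h1
    exact hp.ne_top (top_le_iff.1 h1)
  apply ha
  rw [map_prod]
  exact Finset.prod_eq_zero hgT (hG g (hT𝒢 hgT) p a hgp hap hd)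

end K658.JetCore
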