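import Groth.Agent.Variety.K658.HomogMap
import Groth.Agent.Variety.K658.RelDimComp
import Groth.Agent.Picfga.CurveRelDim
import Groth.Agent.Sga4h.H926.CompH
import Groth.Agent.Ega2.GeoRelDim

/-!
# Kleiman's transversality theorem
-/

set_option autoImplicit false
universe u
open CategoryTheory CategoryTheory.Limits MonoidalCategory CartesianMonoidalCategory MonObj GrpObj AlgebraicGeometry
open Groth.Agent.Books.BorelOrb TopologicalSpace

namespace K658.Kleiman

section Fibre

variable {S : Scheme.{u}} {G X Y : Over S} [GrpObj G] (a : AlgGrp.Action G X) (F : Y ⟶ X)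

/-- `y ↦ (σ, y)`. -/
noncomputable def ins (σ : 𝟙_ (Over S) ⟶ G) (Y : Over S) : Y ⟶ G ⊗ Y := lift (toUnit Y ≫ σ) (𝟙 Y)

theorem ins_hm (σ : 𝟙_ (Over S) ⟶ G) : ins σ Y ≫ HomogMap.hm a F = lift (toUnit Y ≫ σ) F ≫ a.act := by
  rw [HomogMap.hm, comp_sm, ins, lift_fst, ← Category.assoc, lift_snd, Category.id_comp]
  rfl

omit [GrpObj G] in
theorem isPullback_ins (σ : 𝟙_ (Over S) ⟶ G) :
    IsPullback (ins σ Y).left Y.hom (fst G Y).left (σ.left : S ⟶ G.left) := by
  have hright : IsPullback (snd G Y).left (fst G Y).left Y.hom G.hom := (IsPullback.of_hasPullback G.hom Y.hom).flip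
  have houter : IsPullback ((ins σ Y).left ≫ (snd G Y).left) Y.hom Y.hom ((σ.left : S ⟶ G.left) ≫ G.hom) := by
    have h1 : (ins σ Y).left ≫ (snd G Y).left = 𝟙 Y.left := by
      rw [← Over.comp_left, ins, lift_snd, Over.id_left]
    have h2 : (σ.left : S ⟶ G.left) ≫ G.hom = 𝟙 S := Over.w σ
    rw [h1, h2]
    exact IsPullback.id_horiz Y.hom
  refine IsPullback.of_right houter ?_ hright
  have h3 : ins σ Y ≫ fst G Y = toUnit Y ≫ σ := by rw [ins, lift_fst]
  have h4 := congrArg (fun t => t.left) h3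
  simp only [Over.comp_left] at h4
  refine h4.trans ?_
  congr 1

/-- The fibre over `σ` of `(G × Y) ×_X Z ⟶ G` is `Y^σ ×_X Z`. -/
theorem isPullback_fibre {Z : Scheme.{u}} (g : Z ⟶ X.left) (σ : 𝟙_ (Over S) ⟶ G) (fσ : Y.left ⟶ X.left)
    (hfσ : fσ = (ins σ Y).left ≫ (HomogMap.hm a F).left) :
    ∃ j : pullback fσ g ⟶ pullback (HomogMap.hm a F).left g,
      IsPullback j (pullback.fst fσ g ≫ Y.hom) (pullback.fst (HomogMap.hm a F).left g ≫ (fst G Y).left)
        (σ.left : S ⟶ G.left) := by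
  subst hfσ
  let j : pullback ((ins σ Y).left ≫ (HomogMap.hm a F).left) g ⟶ pullback (HomogMap.hm a F).left g :=
    pullback.map _ _ _ _ (ins σ Y).left (𝟙 _) (𝟙 _) (by rw [Category.comp_id]) (by
      rw [Category.comp_id, Category.id_comp])
  refine ⟨j, ?_⟩
  have h1 : IsPullback j (pullback.fst _ g) (pullback.fst _ g) (ins σ Y).left := by
    refine IsPullback.of_right (h₁₂ := pullback.snd (HomogMap.hm a F).left g) (v₁₃ := g)
      (h₂₂ := (HomogMap.hm a F).left) ?_ (pullback.lift_fst _ _ _) (IsPullback.of_hasPullback _ g).flip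
    have h2 : j ≫ pullback.snd (HomogMap.hm a F).left g = pullback.snd _ g := by
      rw [pullback.lift_snd, Category.comp_id]
    rw [h2]
    exact (IsPullback.of_hasPullback _ g).flip
  exact h1.paste_vert (isPullback_ins σ)

end Fibre

/-- Base change to an open subset of the target containing the section. -/
theorem exists_isPullback_restrict {P W G T : Scheme.{u}} {j : P ⟶ W} {t : P ⟶ T} {q : W ⟶ G} {σ : T ⟶ G}
    (h : IsPullback j t q σ) (V : G.Opens) (hσ : Set.range σ ⊆ (V : Set G)) :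
    ∃ (j' : P ⟶ (q ⁻¹ᵁ V : W.Opens)) (σ' : T ⟶ V), IsPullback j' t (q ∣_ V) σ' := by
  have hr : Set.range σ ⊆ Set.range V.ι := by rwa [Scheme.Opens.range_ι]
  let σ' : T ⟶ V := IsOpenImmersion.lift V.ι σ hr
  have hσ' : σ' ≫ V.ι = σ := IsOpenImmersion.lift_fac _ _ _
  have h1 := (isPullback_morphismRestrict q V).flip
  let j' : P ⟶ (q ⁻¹ᵁ V : W.Opens) := h1.lift j (t ≫ σ') (by rw [Category.assoc, hσ', h.w])
  refine ⟨j', σ', IsPullback.of_right (h₁₂ := (q ⁻¹ᵁ V).ι) (v₁₃ := q) (h₂₂ := V.ι) ?_ (h1.lift_snd _ _ _) h1⟩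
  rw [hσ', h1.lift_fst]
  exact h

variable (k : Type u) [Field k] [IsAlgClosed k] [CharZero k]

theorem main
    (G X : Over (Spec (CommRingCat.of k))) [GrpObj G] (a : AlgGrp.Action G X)
    [IsIntegral G.left] [IsSeparated G.hom] [LocallyOfFiniteType G.hom] [QuasiCompact G.hom]
    [IsIntegral X.left] [IsSeparated X.hom] [LocallyOfFiniteType X.hom] [QuasiCompact X.hom]
    (htrans : ∀ x x' : 𝟙_ (Over (Spec (CommRingCat.of k))) ⟶ X,
      ∃ σ : 𝟙_ (Over (Spec (CommRingCat.of k))) ⟶ G, CartesianMonoidalCategory.lift σ x ≫ a.act = x')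
    {Y Z : Scheme.{u}} (f : Y ⟶ X.left) (g : Z ⟶ X.left)
    [IsIntegral Y] [QuasiCompact (f ≫ X.hom)] [Smooth (f ≫ X.hom)]
    [IsIntegral Z] [QuasiCompact (g ≫ X.hom)] [Smooth (g ≫ X.hom)]
    (n r s : ℕ) (hn : topologicalKrullDim ↥X.left = n) (hr : topologicalKrullDim ↥Y = r)
    (hs : topologicalKrullDim ↥Z = s) :
    ∃ V : G.left.Opens, (V : Set ↥G.left).Nonempty ∧
      ∀ σ : 𝟙_ (Over (Spec (CommRingCat.of k))) ⟶ G, Set.range σ.left.base ⊆ (V : Set ↥G.left) →
        ∀ fσ : Y ⟶ X.left,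
          fσ = (CartesianMonoidalCategory.lift (CartesianMonoidalCategory.toUnit (Over.mk (f ≫ X.hom)) ≫ σ)
            (Over.homMk f) ≫ a.act).left →
          Smooth (pullback.fst fσ g ≫ f ≫ X.hom) ∧
            (IsEmpty ↥(pullback fσ g) ∨ (n ≤ r + s ∧ topologicalKrullDim ↥(pullback fσ g) = ((r + s - n : ℕ) : WithBot ℕ∞))) := by
  let Y' : Over (Spec (CommRingCat.of k)) := Over.mk (f ≫ X.hom)
  let F : Y' ⟶ X := Over.homMk f
  have hYs : Smooth Y'.hom := ‹Smooth (f ≫ X.hom)›
  have hYq : QuasiCompact Y'.hom := ‹QuasiCompact (f ≫ X.hom)›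
  have hGs : Smooth G.hom := K207.SmoothUnit.smooth_of_reduced G
  have hXs : Smooth X.hom := HomogMap.smooth_of_homogeneous a htrans
  have hh : Smooth (HomogMap.hm a F).left := HomogMap.smooth_hm a F htrans
  -- relative dimensions
  obtain ⟨d, hd⟩ := Groth.Agent.Sga4h.H926.CompH.exists_relDim G.left G.hom
  have hXn : SmoothOfRelativeDimension n X.hom :=
    Groth.Agent.Picfga.CurveRelDim.smoothOfRelativeDimension_of_topologicalKrullDim_eq k X.left X.hom n hn
  have hYr : SmoothOfRelativeDimension r (f ≫ X.hom) :=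
    Groth.Agent.Picfga.CurveRelDim.smoothOfRelativeDimension_of_topologicalKrullDim_eq k Y (f ≫ X.hom) r hr
  have hZs : SmoothOfRelativeDimension s (g ≫ X.hom) :=
    Groth.Agent.Picfga.CurveRelDim.smoothOfRelativeDimension_of_topologicalKrullDim_eq k Z (g ≫ X.hom) s hs
  have hGY : SmoothOfRelativeDimension (r + d) (G ⊗ Y').hom := by
    change SmoothOfRelativeDimension (r + d) (pullback.fst G.hom (f ≫ X.hom) ≫ G.hom)
    have h1 : SmoothOfRelativeDimension r (pullback.fst G.hom (f ≫ X.hom)) :=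
      Groth.Agent.Ega2.GeoRelDim.relDim_of_isPullback (IsPullback.of_hasPullback _ _).flip hYr
    infer_instance
  -- the incidence scheme
  let W := pullback (HomogMap.hm a F).left g
  let q : W ⟶ G.left := pullback.fst (HomogMap.hm a F).left g ≫ (fst G Y').left
  have hpb : IsPullback (pullback.snd (HomogMap.hm a F).left g) (pullback.fst (HomogMap.hm a F).left g) g
      (HomogMap.hm a F).left := (IsPullback.of_hasPullback _ g).flip
  have hWZ : Smooth (pullback.snd (HomogMap.hm a F).left g) := MorphismProperty.pullback_snd (P := @Smooth) _ _ hh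
  have hWk : q ≫ G.hom = pullback.snd (HomogMap.hm a F).left g ≫ g ≫ X.hom := by
    have h1 : (fst G Y').left ≫ G.hom = (HomogMap.hm a F).left ≫ X.hom := (Over.w _).trans (Over.w _).symm
    simp only [q, Category.assoc]
    rw [h1, pullback.condition_assoc]
  have hWs : Smooth (q ≫ G.hom) := by rw [hWk]; infer_instance
  have hWq : QuasiCompact (q ≫ G.hom) := by
    rw [hWk]
    have hXsep : QuasiSeparated X.hom := inferInstance
    have h1 : QuasiCompact ((HomogMap.hm a F).left ≫ X.hom) := by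
      have h2 : (HomogMap.hm a F).left ≫ X.hom = (G ⊗ Y').hom := Over.w _
      rw [h2]
      exact HomogMap.quasiCompact_tensor
    have h3 : QuasiCompact (HomogMap.hm a F).left := QuasiCompact.of_comp _ X.hom
    infer_instance
  obtain ⟨V, hV, hVs⟩ := K427.GenSmooth.exists_open_smooth_preimage k (q ≫ G.hom) G.hom q rfl
  refine ⟨V, hV, fun σ hσ fσ hfσ => ?_⟩
  have hfσ' : fσ = (ins σ Y').left ≫ (HomogMap.hm a F).left := by
    rw [hfσ, ← Over.comp_left, ins_hm]
  obtain ⟨j, hj⟩ := isPullback_fibre a F g σ fσ hfσ'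
  obtain ⟨j', σ', hj'⟩ := exists_isPullback_restrict hj V hσ
  refine ⟨MorphismProperty.of_isPullback (P := @Smooth) hj' hVs, ?_⟩
  rcases isEmpty_or_nonempty ↥(pullback fσ g) with hE | hN
  · exact Or.inl hE
  right
  have hYne : Nonempty Y'.left := inferInstanceAs (Nonempty Y)
  have hne : Nonempty (G ⊗ Y').left := ⟨(ins (1 : 𝟙_ (Over (Spec (CommRingCat.of k))) ⟶ G) Y').left (Classical.choice hYne)⟩
  have hhX : SmoothOfRelativeDimension (r + d) ((HomogMap.hm a F).left ≫ X.hom) := by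
    have h2 : (HomogMap.hm a F).left ≫ X.hom = (G ⊗ Y').hom := Over.w _
    rw [h2]; exact hGY
  obtain ⟨hle, hhr⟩ := RelDimComp.of_comp (HomogMap.hm a F).left X.hom n (r + d) hXn hhX
  have hWr : SmoothOfRelativeDimension ((r + d - n) + s) (q ≫ G.hom) := by
    rw [hWk]
    have h1 : SmoothOfRelativeDimension (r + d - n) (pullback.snd (HomogMap.hm a F).left g) :=
      Groth.Agent.Ega2.GeoRelDim.relDim_of_isPullback (IsPullback.of_hasPullback _ _) hhr
    infer_instance
  have hWV : SmoothOfRelativeDimension ((r + d - n) + s) ((q ∣_ V) ≫ V.ι ≫ G.hom) := by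
    rw [morphismRestrict_ι_assoc]
    have h1 : SmoothOfRelativeDimension (0 + ((r + d - n) + s)) ((q ⁻¹ᵁ V).ι ≫ q ≫ G.hom) := inferInstance
    rwa [zero_add] at h1
  have hVd : SmoothOfRelativeDimension d (V.ι ≫ G.hom) := by
    have h1 : SmoothOfRelativeDimension (0 + d) (V.ι ≫ G.hom) := inferInstance
    rwa [zero_add] at h1
  have hWVne : Nonempty (q ⁻¹ᵁ V : W.Opens) := ⟨j' (Classical.choice hN)⟩
  obtain ⟨hle2, hq⟩ := RelDimComp.of_comp (q ∣_ V) (V.ι ≫ G.hom) d ((r + d - n) + s) hVd hWV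
  have hP : SmoothOfRelativeDimension ((r + d - n) + s - d) (pullback.fst fσ g ≫ Y'.hom) :=
    Groth.Agent.Ega2.GeoRelDim.relDim_of_isPullback hj' hq
  refine ⟨by omega, ?_⟩
  have h1 := RelDimComp.topologicalKrullDim_eq ((r + d - n) + s - d) (pullback.fst fσ g ≫ Y'.hom)
  rw [h1, show (r + d - n) + s - d = r + s - n by omega]

end K658.Kleiman
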