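import Groth.Agent.Variety.K658.CotRank
import Groth.Agent.Variety.K658.RelDimComp
import Groth.Agent.Variety.K427.JacCot
import Groth.Agent.FlatMor.K257.SmoothDivSch
import Groth.Agent.Sga4h.H926.CompH
import Groth.Agent.S10929
import Groth.Agent.S1618
import Groth.Agent.S4367
import Groth.Agent.AGF.K498.OrbDim
import Groth.Agent.FBase.K106.ConnPre

/-!
# The image of the locus where the tangent map has rank at most `r`

Hartshorne III.10.6: in characteristic zero, the image of the set of closed points where the tangent map has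
rank at most `r` has dimension at most `r`.
-/

set_option autoImplicit false
universe u

open CategoryTheory CategoryTheory.Limits AlgebraicGeometry IsLocalRing TopologicalSpace

namespace K658.RankStrat

open FixPt

variable {k : Type u} [Field k] [IsAlgClosed k] [CharZero k]

/-- The case of a dominant morphism of integral schemes sitting over `X ⟶ Y`. -/
theorem dim_le {X Y X' Z : Scheme.{u}} (qX : X ⟶ Spec (CommRingCat.of k)) (qY : Y ⟶ Spec (CommRingCat.of k))
    [LocallyOfFiniteType qX] [QuasiCompact qX] [LocallyOfFiniteType qY] [QuasiCompact qY]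
    (f : X ⟶ Y) (hf : f ≫ qY = qX) (r : ℕ) (j : X' ⟶ X) (i : Z ⟶ Y) [IsClosedImmersion j] [IsClosedImmersion i]
    [IsIntegral X'] [IsIntegral Z] (g : X' ⟶ Z) (w : g ≫ i = j ≫ f) (hg : DenseRange g)
    (A : Set X) (hA : ∀ x ∈ A, IsClosed ({x} : Set X) ∧
      ∃ S : Finset (CotangentSpace (X.presheaf.stalk x)), S.card ≤ r ∧
        (LinearMap.range (cotangentMapAt f x (f.base x) rfl) : Set (CotangentSpace (X.presheaf.stalk x))) ⊆
          (Submodule.span (ResidueField (X.presheaf.stalk x))
            (S : Set (CotangentSpace (X.presheaf.stalk x))) : Set (CotangentSpace (X.presheaf.stalk x))))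
    (hd : Dense (j ⁻¹' A)) : topologicalKrullDim Z ≤ r := by
  have e1 : g ≫ (i ≫ qY) = j ≫ qX := by rw [reassoc_of% w, hf]
  obtain ⟨U, hU, hUs⟩ := Groth.Agent.S10929.result k (j ≫ qX) (i ≫ qY) g e1 hg
  have hqd : DenseRange (i ≫ qY) := by
    have : Function.Surjective (i ≫ qY) := by
      intro y
      refine ⟨Classical.arbitrary Z, ?_⟩
      exact Subsingleton.elim _ _
    exact this.denseRange
  have hSpec : QuasiCompact (𝟙 (Spec (CommRingCat.of k))) := inferInstance
  obtain ⟨V, hV, hVs⟩ := Groth.Agent.S10929.result k (i ≫ qY) (𝟙 (Spec (CommRingCat.of k))) (i ≫ qY)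
    (Category.comp_id _) hqd
  -- the open `W = U ∩ g⁻¹ V`
  let W : X'.Opens := U ⊓ g ⁻¹ᵁ V
  have hgV : ((g ⁻¹ᵁ V : X'.Opens) : Set X').Nonempty := by
    obtain ⟨z, hz⟩ := hg.exists_mem_open V.isOpen hV
    exact ⟨z, hz⟩
  have hW : (W : Set X').Nonempty := nonempty_preirreducible_inter U.isOpen (g ⁻¹ᵁ V).isOpen hU hgV
  have hWle : W ≤ g ⁻¹ᵁ V := inf_le_right
  let g' : (W : Scheme.{u}) ⟶ V := g.resLE V W hWle
  have hg' : g' ≫ V.ι = W.ι ≫ g := Scheme.Hom.resLE_comp_ι _ _
  have hWs : Smooth (W.ι ≫ g) := by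
    have : W.ι ≫ g = X'.homOfLE (inf_le_left : W ≤ U) ≫ (U.ι ≫ g) := by
      rw [Scheme.homOfLE_ι_assoc]
    rw [this]
    infer_instance
  have hg's : Smooth g' := by
    have h1 : Smooth (g' ≫ V.ι) := by rw [hg']; exact hWs
    exact K257.SmoothDivSch.smooth_of_comp_mono g' V.ι
  have : Nonempty W := hW.to_subtype
  have : Nonempty V := hV.to_subtype
  have hWint : IsIntegral (W : Scheme.{u}) := inferInstance
  have hVint : IsIntegral (V : Scheme.{u}) := inferInstance
  let qV : (V : Scheme.{u}) ⟶ Spec (CommRingCat.of k) := V.ι ≫ i ≫ qY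
  let qW : (W : Scheme.{u}) ⟶ Spec (CommRingCat.of k) := g' ≫ qV
  have hqV : Smooth qV := hVs
  have hqW : Smooth qW := inferInstance
  obtain ⟨d, hdV⟩ := Groth.Agent.Sga4h.H926.CompH.exists_relDim (V : Scheme.{u}) qV
  obtain ⟨e, hdW⟩ := Groth.Agent.Sga4h.H926.CompH.exists_relDim (W : Scheme.{u}) qW
  obtain ⟨hde, hrel⟩ := K658.RelDimComp.of_comp g' qV d e hdV hdW
  have hdimV : topologicalKrullDim V = d := K658.RelDimComp.topologicalKrullDim_eq d qV
  have hdimW : topologicalKrullDim W = e := K658.RelDimComp.topologicalKrullDim_eq e qW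
  have hjX : LocallyOfFiniteType (j ≫ qX) := inferInstance
  have hXn : IsNoetherian X' := by
    have : IsLocallyNoetherian X' := LocallyOfFiniteType.isLocallyNoetherian (j ≫ qX)
    have : CompactSpace X' := QuasiCompact.compactSpace_of_compactSpace (j ≫ qX)
    exact {}
  have hqWc : QuasiCompact qW := by
    have : CompactSpace W := isCompact_iff_compactSpace.1 (NoetherianSpace.isCompact (W : Set X'))
    exact HasAffineProperty.iff_of_isAffine.mpr this
  -- a point of `A`
  obtain ⟨x', hx'A, hx'W⟩ := hd.exists_mem_open W.isOpen hW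
  obtain ⟨hcl, S, hSc, hS⟩ := hA (j x') hx'A
  let p : W := ⟨x', hx'W⟩
  have hpcl : IsClosed ({p} : Set W) := by
    have h1 : ({p} : Set W) = (W.ι ≫ j) ⁻¹' {j x'} := by
      ext t
      simp only [Set.mem_singleton_iff, Set.mem_preimage, Scheme.Hom.comp_apply]
      constructor
      · rintro rfl; rfl
      · intro ht
        have h2 := j.isClosedEmbedding.injective ht
        exact W.ι.isOpenEmbedding.injective h2
    rw [h1]
    exact hcl.preimage (W.ι ≫ j).continuous
  have hinj : Function.Injective (cotangentMapAt g' p (g' p) rfl) :=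
    K427.JacCot.cotangent_of_smooth qW qV g' rfl (e - d) d hdimV
      (by rw [hdimW]; congr 1; omega) hrel p hpcl
  have hres : Function.Surjective (g'.residueFieldMap p).hom :=
    K435.SmoothCrit.residueFieldMap_surjective (qX := qW) (qY := qV) g' rfl p hpcl
  have hLN : IsLocallyNoetherian (V : Scheme.{u}) := LocallyOfFiniteType.isLocallyNoetherian qV
  have hle := K658.CotRank.finrank_le g' (V.ι ≫ i) (W.ι ≫ j) f (by
      rw [reassoc_of% hg', Category.assoc, w]) p hinj hres
      (by
        have : IsImmersion (V.ι ≫ i) := inferInstance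
        exact (V.ι ≫ i).stalkMap_surjective (g' p)) (j x') rfl S hS
  have hgcl : IsClosed ({g' p} : Set V) := by
    have : JacobsonSpace V := LocallyOfFiniteType.jacobsonSpace qV
    exact g'.closePoints_subset_preimage_closedPoints hpcl
  obtain ⟨hreg, hdimr⟩ := (Groth.Agent.Lefpen.H703.ClosedSmooth.smoothOfRelativeDimension_iff qV d).1 hdV (g' p) hgcl
  have hfin : Module.finrank (ResidueField ((V : Scheme.{u}).presheaf.stalk (g' p)))
      (CotangentSpace ((V : Scheme.{u}).presheaf.stalk (g' p))) = d := by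
    have h1 : (Module.finrank (ResidueField ((V : Scheme.{u}).presheaf.stalk (g' p)))
      (CotangentSpace ((V : Scheme.{u}).presheaf.stalk (g' p))) : WithBot ℕ∞) = d := by
      rw [← hdimr, ← IsRegularLocalRing.spanFinrank_maximalIdeal,
        IsLocalRing.spanFinrank_maximalIdeal_eq_finrank_cotangentSpace]
    exact_mod_cast h1
  rw [hfin] at hle
  have hZ : topologicalKrullDim Z = d := by
    let : Z.Over (Spec (CommRingCat.of k)) := ⟨i ≫ qY⟩
    have : LocallyOfFiniteType (Z ↘ (Spec (CommRingCat.of k))) := inferInstanceAs (LocallyOfFiniteType (i ≫ qY))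
    rw [← hdimV]
    exact (Groth.Agent.S1618.result k Z V hV).symm
  rw [hZ]
  exact_mod_cast hle.trans hSc

theorem main {X Y : Scheme.{u}} (qX : X ⟶ Spec (CommRingCat.of k)) (qY : Y ⟶ Spec (CommRingCat.of k))
    [LocallyOfFiniteType qX] [QuasiCompact qX] [LocallyOfFiniteType qY] [QuasiCompact qY]
    (f : X ⟶ Y) (hf : f ≫ qY = qX) (r : ℕ)
    (A : Set X) (hA : ∀ x ∈ A, IsClosed ({x} : Set X) ∧
      ∃ S : Finset (CotangentSpace (X.presheaf.stalk x)), S.card ≤ r ∧
        (LinearMap.range (cotangentMapAt f x (f.base x) rfl) : Set (CotangentSpace (X.presheaf.stalk x))) ⊆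
          (Submodule.span (ResidueField (X.presheaf.stalk x))
            (S : Set (CotangentSpace (X.presheaf.stalk x))) : Set (CotangentSpace (X.presheaf.stalk x)))) :
    topologicalKrullDim ↥(closure (f '' A)) ≤ r := by
  classical
  have hXLN : IsLocallyNoetherian X := LocallyOfFiniteType.isLocallyNoetherian qX
  have hXc : CompactSpace X := QuasiCompact.compactSpace_of_compactSpace qX
  have hXN : IsNoetherian X := {}
  have hns : NoetherianSpace X := inferInstance
  obtain ⟨T, hT1, -, hT2, hT3⟩ := NoetherianSpace.exists_finite_set_isClosed_irreducible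
    (isClosed_univ (X := A))
  let c : Set A → Set Y := fun t => closure (f '' (Subtype.val '' t))
  refine K498.OrbDim.topologicalKrullDim_le_of_closed_cover _ (hT1.toFinset.image c) ?_ ?_ ?_
  · intro Z hZ
    obtain ⟨t, -, rfl⟩ := Finset.mem_image.1 hZ
    exact isClosed_closure
  · intro Z hZ
    obtain ⟨t, ht, rfl⟩ := Finset.mem_image.1 hZ
    rw [Set.Finite.mem_toFinset] at ht
    have hirr : IsIrreducible (Subtype.val '' t : Set X) :=
      (hT2 t ht).image _ continuous_subtype_val.continuousOn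
    obtain ⟨X', j, hj, hX'i, hjr⟩ := K106.ConnPre.exists_integral_closed
      (closure (Subtype.val '' t : Set X)) isClosed_closure hirr.closure
    obtain ⟨Z, i, hi, hZi, hir⟩ := K106.ConnPre.exists_integral_closed (c t)
      isClosed_closure (hirr.image f f.continuous.continuousOn).closure
    obtain ⟨g, hg⟩ := Groth.Agent.S4367.result (j ≫ f) i (by
      rw [hir]
      rintro _ ⟨z, rfl⟩
      rw [Scheme.Hom.comp_apply]
      have h1 : j z ∈ closure (Subtype.val '' t : Set X) := hjr ▸ ⟨z, rfl⟩
      exact image_closure_subset_closure_image f.continuous ⟨_, h1, rfl⟩)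
    have hcl1 : IsClosed (Set.range i) := i.isClosedEmbedding.isClosed_range
    have hdim : topologicalKrullDim (c t) = topologicalKrullDim Z := by
      rw [← hir]
      exact (IsHomeomorph.topologicalKrullDim_eq _ i.isEmbedding.toHomeomorph.isHomeomorph).symm
    rw [hdim]
    refine dim_le qX qY f hf r j i g hg ?_ A hA ?_
    · intro z
      rw [i.isEmbedding.closure_eq_preimage_closure_image]
      have h2 : i z ∈ c t := hir ▸ ⟨z, rfl⟩
      refine closure_mono ?_ h2
      rintro _ ⟨_, ⟨a, ha, rfl⟩, rfl⟩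
      have h3 : (a : X) ∈ Set.range j := hjr ▸ subset_closure ⟨a, ha, rfl⟩
      obtain ⟨b, hb⟩ := h3
      refine ⟨g b, ⟨b, rfl⟩, ?_⟩
      rw [← Scheme.Hom.comp_apply, hg, Scheme.Hom.comp_apply, hb]
    · intro z
      rw [j.isEmbedding.closure_eq_preimage_closure_image]
      have h2 : j z ∈ closure (Subtype.val '' t : Set X) := hjr ▸ ⟨z, rfl⟩
      refine closure_mono ?_ h2
      rintro _ ⟨a, ha, rfl⟩
      have h3 : (a : X) ∈ Set.range j := hjr ▸ subset_closure ⟨a, ha, rfl⟩
      obtain ⟨b, hb⟩ := h3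
      exact ⟨b, by rw [Set.mem_preimage, hb]; exact a.2, hb⟩
  · have hfin : (⋃ t ∈ T, c t) = ⋃₀ ((hT1.toFinset.image c : Finset (Set Y)) : Set (Set Y)) := by
      ext y
      simp
    rw [← hfin]
    refine closure_minimal ?_ (hT1.isClosed_biUnion fun t _ => isClosed_closure)
    rintro _ ⟨a, ha, rfl⟩
    have h1 : (⟨a, ha⟩ : A) ∈ ⋃₀ T := hT3 ▸ Set.mem_univ _
    obtain ⟨t, ht, hat⟩ := h1
    exact Set.mem_biUnion ht (subset_closure ⟨a, ⟨⟨a, ha⟩, hat, rfl⟩, rfl⟩)

end K658.RankStrat
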