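import Groth.Agent.Variety.K658.JetCore
import Groth.Agent.SmVar.K658.SecSmooth
import Groth.Agent.CycB.ModStalk
import Groth.Agent.Ega2.QCohLocal
import Groth.Agent.Fdesc.LocGenAmple
import Groth.Prelude.Def_Formal

/-!
# Bertini with a base section and a jet-spanning linear system, scheme form
-/

set_option autoImplicit false
universe u
open CategoryTheory CategoryTheory.Limits AlgebraicGeometry TopologicalSpace Opposite
open Groth.Agent.VarietyB Groth.Agent.VarietyB.ProjGlue Groth.Agent.Fdesc.LocGen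

namespace K658.JetScheme

variable {X : Scheme.{u}}

theorem sec_add {M : X.Modules} (s t : Coh.structureModule X ⟶ M) (U : X.Opens) :
    sec (s + t) U = sec s U + sec t U := rfl

theorem sec_zero {M : X.Modules} (U : X.Opens) : sec (0 : Coh.structureModule X ⟶ M) U = 0 := rfl

theorem sec_sum {M : X.Modules} {ι : Type*} (T : Finset ι) (s : ι → (Coh.structureModule X ⟶ M)) (U : X.Opens) :
    sec (∑ i ∈ T, s i) U = ∑ i ∈ T, sec (s i) U := by
  classical
  induction T using Finset.induction_on with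
  | empty => rw [Finset.sum_empty, Finset.sum_empty, sec_zero]
  | insert a T ha ih => rw [Finset.sum_insert ha, Finset.sum_insert ha, sec_add, ih]

theorem sec_smulMod {k : Type u} [CommRing k] [X.Over (Spec (CommRingCat.of k))] {M : X.Modules} (c : k)
    (s : Coh.structureModule X ⟶ M) (U : X.Opens) :
    sec (Formal.smulMod k (Coh.structureModule X) c ≫ s) U =
      CoordData.baseHom (X ↘ Spec (CommRingCat.of k)) U c • sec s U := by
  have h1 : (Formal.smulMod k (Coh.structureModule X) c).app U (one U) =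
      CoordData.baseHom (X ↘ Spec (CommRingCat.of k)) U c • one U := rfl
  change s.app U ((Formal.smulMod k (Coh.structureModule X) c).app U (one U)) = _
  rw [h1, Scheme.Modules.Hom.app_smul]
  rfl

theorem mem_smul_top_iff {R M : Type*} [CommRing R] [AddCommGroup M] [Module R M] (I : Ideal R) (t : M)
    (ht : Function.Surjective (fun a : R => a • t)) (y : M) (hy : y ∈ I • (⊤ : Submodule R M)) :
    ∃ a ∈ I, y = a • t := by
  refine Submodule.smul_induction_on hy (fun a ha z _ => ?_) (fun y z hy hz => ?_)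
  · obtain ⟨b, hb⟩ := ht z
    refine ⟨a * b, Ideal.mul_mem_right _ _ ha, ?_⟩
    rw [← hb]
    exact smul_smul a b t
  · obtain ⟨a, ha, rfl⟩ := hy
    obtain ⟨b, hb, rfl⟩ := hz
    exact ⟨a + b, add_mem ha hb, (add_smul a b t).symm⟩

theorem mem_sq_of_localization {A R : Type*} [CommRing A] [CommRing R] [Algebra A R] (𝔪 : Ideal A)
    [h𝔪 : 𝔪.IsMaximal] [IsLocalization.AtPrime R 𝔪] [IsLocalRing R] (z : A)
    (hz : algebraMap A R z ∈ IsLocalRing.maximalIdeal R ^ 2) : z ∈ 𝔪 ^ 2 := by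
  rw [← IsLocalization.AtPrime.map_eq_maximalIdeal 𝔪 R, ← Ideal.map_pow,
    IsLocalization.algebraMap_mem_map_algebraMap_iff 𝔪.primeCompl] at hz
  obtain ⟨s, hs, hst⟩ := hz
  exact (Ideal.IsMaximal.mul_mem_pow 𝔪 hst).resolve_left hs

/-- The jets of a germ, in terms of a generator. -/
theorem jet_alg {L : X.Modules} {U : X.Opens} {e : Γ(L, U)} (he : IsGen e)
    (𝔪 : Ideal Γ(X, U)) (h𝔪 : 𝔪.IsMaximal) (z l : Γ(X, U)) (x : X) (hx : x ∈ U)
    (hloc : letI := TopCat.Presheaf.algebra_section_stalk X.presheaf ⟨x, hx⟩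
      IsLocalization.AtPrime (X.presheaf.stalk x) 𝔪)
    (h : L.presheaf.germ U x hx (z • e) - L.presheaf.germ U x hx (l • e) ∈
        (IsLocalRing.maximalIdeal ↥(X.presheaf.stalk x)) ^ 2 •
          (⊤ : Submodule ↥(X.presheaf.stalk x) ↥(L.presheaf.stalk x))) : z - l ∈ 𝔪 ^ 2 := by
  have hg : Groth.Agent.CycB.ModStalk.IsGen L x (L.presheaf.germ U x hx e) :=
    Groth.Agent.CycB.ModStalk.IsGenOn.isGen (L := L) (t := e) he x hx
  obtain ⟨a, ha, h1⟩ := mem_smul_top_iff _ _ hg.2 _ h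
  rw [Groth.Agent.CycB.ModStalk.germ_smul, Groth.Agent.CycB.ModStalk.germ_smul, ← sub_smul] at h1
  have h2 : X.presheaf.germ U x hx z - X.presheaf.germ U x hx l = a := hg.1 h1
  let _ := TopCat.Presheaf.algebra_section_stalk X.presheaf ⟨x, hx⟩
  refine mem_sq_of_localization (R := X.presheaf.stalk x) 𝔪 _ ?_
  have h3 : algebraMap Γ(X, U) (X.presheaf.stalk x) (z - l) = X.presheaf.germ U x hx z - X.presheaf.germ U x hx l :=
    map_sub (X.presheaf.germ U x hx).hom z l
  rw [h3, h2]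
  exact ha

/-- The chart polynomial. -/
theorem exists_chart {k : Type u} [Field k] [IsAlgClosed k] [X.Over (Spec (CommRingCat.of k))]
    [Smooth (X ↘ Spec (CommRingCat.of k))] {L : X.Modules} (m : ℕ)
    (s : Fin m → (Coh.structureModule X ⟶ L)) (f : Coh.structureModule X ⟶ L)
    (hjet : ∀ p : X, IsClosed ({p} : Set X) → ∀ l : ↥(L.presheaf.stalk p), ∃ c : Fin m → k,
      (L.presheaf.germ ⊤ p trivial)
          (PicF2.secVal L (∑ i : Fin m, Formal.smulMod k (Coh.structureModule X) (c i) ≫ s i) ⊤) - l ∈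
        (IsLocalRing.maximalIdeal ↥(X.presheaf.stalk p)) ^ 2 •
          (⊤ : Submodule ↥(X.presheaf.stalk p) ↥(L.presheaf.stalk p)))
    {U : X.Opens} (hU : IsAffineOpen U) {e : Γ(L, U)} (he : IsGen e) :
    ∃ q : MvPolynomial (Fin m) k, q ≠ 0 ∧ ∀ c : Fin m → k, MvPolynomial.eval c q ≠ 0 →
      ∃ z : Γ(X, U), sec (f + ∑ i : Fin m, Formal.smulMod k (Coh.structureModule X) (c i) ≫ s i) U = z • e ∧
        letI := (CoordData.baseHom (X ↘ Spec (CommRingCat.of k)) U).toAlgebra
        K658.AffBertini.Transv k z := by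
  let p := X ↘ Spec (CommRingCat.of k)
  let _ : Algebra k Γ(X, U) := (CoordData.baseHom p U).toAlgebra
  have hsm : Algebra.Smooth k Γ(X, U) := by
    rw [← RingHom.smooth_algebraMap]
    exact K658.SecSmooth.smooth_baseHom p hU
  have hJ : JacobsonSpace X := LocallyOfFiniteType.jacobsonSpace p
  choose x hx using fun i => he.exists_eq (sec (s i) U)
  obtain ⟨w, hw⟩ := he.exists_eq (sec f U)
  have hsec : ∀ c : Fin m → k, sec (∑ i : Fin m, Formal.smulMod k (Coh.structureModule X) (c i) ≫ s i) U =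
      (∑ i, algebraMap k Γ(X, U) (c i) * x i) • e := by
    intro c
    rw [sec_sum, Finset.sum_smul]
    refine Finset.sum_congr rfl fun i _ => ?_
    rw [sec_smulMod, hx, smul_smul]
    rfl
  obtain ⟨q, hq0, hq⟩ := K658.JetCore.exists_polynomial (k := k) m x w (by
    intro 𝔪 h𝔪 l
    let y : PrimeSpectrum Γ(X, U) := ⟨𝔪, h𝔪.isPrime⟩
    have hy : hU.fromSpec y ∈ U := (hU.isoSpec.inv _).2
    have hcl : IsClosed ({hU.fromSpec y} : Set X) := by
      have h1 : y ∈ closedPoints (Spec Γ(X, U)) :=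
        (PrimeSpectrum.isClosed_singleton_iff_isMaximal y).2 h𝔪
      exact Scheme.Hom.closePoints_subset_preimage_closedPoints hU.fromSpec h1
    obtain ⟨c, hc⟩ := hjet _ hcl (L.presheaf.germ U _ hy (l • e))
    refine ⟨c, jet_alg he 𝔪 h𝔪 _ l _ hy (hU.isLocalization_stalk' y hy) ?_⟩
    rw [← hsec, ← res_sec _ (le_top : U ≤ ⊤)]
    have h2 : L.presheaf.germ U (hU.fromSpec y) hy (res L le_top
        (sec (∑ i : Fin m, Formal.smulMod k (Coh.structureModule X) (c i) ≫ s i) ⊤)) =
        L.presheaf.germ ⊤ (hU.fromSpec y) trivial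
          (sec (∑ i : Fin m, Formal.smulMod k (Coh.structureModule X) (c i) ≫ s i) ⊤) :=
      L.presheaf.germ_res_apply (homOfLE le_top) _ hy _
    rw [h2]
    exact hc)
  refine ⟨q, hq0, fun c hc => ⟨w + ∑ i, algebraMap k Γ(X, U) (c i) * x i, ?_, hq c hc⟩⟩
  rw [sec_add, hw, hsec, add_smul]

theorem main (k : Type u) [Field k] [IsAlgClosed k]
    (Y : Scheme.{u}) [Y.Over (Spec (CommRingCat.of k))] [Smooth (Y ↘ Spec (CommRingCat.of k))]
    [QuasiCompact (Y ↘ Spec (CommRingCat.of k))]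
    (L : Y.Modules) (hL : FlatMod.IsFinLocFreeOfRank 1 L) (m : ℕ)
    (s : Fin m → (Coh.structureModule Y ⟶ L)) (f : Coh.structureModule Y ⟶ L)
    (hjet : ∀ p : Y, IsClosed ({p} : Set Y) → ∀ l : ↥(L.presheaf.stalk p), ∃ c : Fin m → k,
      (L.presheaf.germ ⊤ p trivial)
          (PicF2.secVal L (∑ i : Fin m, Formal.smulMod k (Coh.structureModule Y) (c i) ≫ s i) ⊤) - l ∈
        (IsLocalRing.maximalIdeal ↥(Y.presheaf.stalk p)) ^ 2 •
          (⊤ : Submodule ↥(Y.presheaf.stalk p) ↥(L.presheaf.stalk p))) :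
    ∃ q : MvPolynomial (Fin m) k, q ≠ 0 ∧ ∀ c : Fin m → k, MvPolynomial.eval c q ≠ 0 →
      Smooth ((PicF2.zeroScheme L (f + ∑ i : Fin m, Formal.smulMod k (Coh.structureModule Y) (c i) ≫ s i)).subschemeι ≫
        (Y ↘ Spec (CommRingCat.of k))) := by
  classical
  have hinv : PicF.IsInvertible L := Groth.Agent.Ega2.QCohLocal.isFinLocFreeOfRank_one_iff.1 hL
  let p := Y ↘ Spec (CommRingCat.of k)
  have hcs : CompactSpace Y := by
    have : QuasiCompact p := inferInstance
    exact QuasiCompact.compactSpace_of_compactSpace p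
  obtain ⟨N, ⟨T⟩⟩ := Groth.Agent.Fdesc.LocGen.exists_triv hinv
  choose q hq0 hq using fun i : Fin N => exists_chart m s f hjet (T.affine i) (T.gen i)
  refine ⟨∏ i, q i, Finset.prod_ne_zero_iff.2 fun i _ => hq0 i, fun c hc => ?_⟩
  rw [map_prod, Finset.prod_ne_zero_iff] at hc
  refine K658.SecSmooth.smooth_subschemeι p _ (fun i => ⟨T.U i, T.affine i⟩) (fun x => ?_) fun i => ?_
  · have h1 : x ∈ ⨆ i, T.U i := by rw [T.cover]; trivial
    exact Opens.mem_iSup.1 h1
  · obtain ⟨z, hz, ht⟩ := hq i c (hc i (Finset.mem_univ i))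
    let _ : Algebra k Γ(Y, T.U i) := (CoordData.baseHom p (T.U i)).toAlgebra
    have hsm : Algebra.Smooth k Γ(Y, T.U i) := by
      rw [← RingHom.smooth_algebraMap]
      exact K658.SecSmooth.smooth_baseHom p (T.affine i)
    have h1 := Groth.Agent.Pi1C.ZeroScheme.ideal_eq_span
      (f + ∑ i : Fin m, Formal.smulMod k (Coh.structureModule Y) (c i) ≫ s i) hinv ⟨T.U i, T.affine i⟩ (T.gen i) hz
    rw [h1]
    have h2 : (Ideal.Quotient.mk (Ideal.span {z})).comp (CoordData.baseHom p (T.U i)) =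
      algebraMap k (Γ(Y, T.U i) ⧸ Ideal.span {z}) := rfl
    change ((Ideal.Quotient.mk (Ideal.span {z})).comp (CoordData.baseHom p (T.U i))).Smooth
    rw [h2, RingHom.smooth_algebraMap]
    exact AffBertini.smooth_quotient _ ht

end K658.JetScheme
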