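import Groth.Agent.Fixpt.H926.Transv
import Groth.Agent.Variety.K435.SmoothCrit

/-!
# Ranks of cotangent maps

* `cot_smul`: the cotangent map at a point is semilinear over the residue fields;
* `finrank_le`: if the cotangent map of `f : X ⟶ Y` at `j p` has rank at most `r`, then the cotangent
  space of a subscheme `V` of `Y` dominated by a subscheme `W` of `X` with injective cotangent map has
  dimension at most `r`.
-/

set_option autoImplicit false
universe u

open CategoryTheory CategoryTheory.Limits AlgebraicGeometry IsLocalRing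

namespace K658.CotRank

open Groth.Agent.Fixpt.H926.Transv FixPt

variable {W V X Y : Scheme.{u}}

theorem cot_smul (f : X ⟶ Y) (x : X) (y : Y) (hy : f x = y) (a : Y.presheaf.stalk y)
    (v : CotangentSpace (Y.presheaf.stalk y)) :
    cotangentMapAt f x y hy (residue _ a • v) =
      residue _ (stalkMapAt f x y hy a) • cotangentMapAt f x y hy v := by
  obtain ⟨m, rfl⟩ := Ideal.toCotangent_surjective _ v
  have h1 : residue _ a • (maximalIdeal (Y.presheaf.stalk y)).toCotangent m =
      (maximalIdeal (Y.presheaf.stalk y)).toCotangent (a • m) := by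
    rw [map_smul]
    exact IsScalarTower.algebraMap_smul (ResidueField (Y.presheaf.stalk y)) a _
  rw [h1, cotangentMapAt_toCotangent, cotangentMapAt_toCotangent]
  have h2 : ∀ (b : X.presheaf.stalk x) (n : maximalIdeal (X.presheaf.stalk x)),
      residue _ b • (maximalIdeal (X.presheaf.stalk x)).toCotangent n =
        (maximalIdeal (X.presheaf.stalk x)).toCotangent (b • n) := by
    intro b n
    rw [map_smul]
    exact IsScalarTower.algebraMap_smul (ResidueField (X.presheaf.stalk x)) b _
  rw [h2]
  congr 1
  apply Subtype.ext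
  change stalkMapAt f x y hy (a * m) = _
  rw [map_mul]
  rfl

theorem span_map (j : W ⟶ X) (p : W) (x : X) (hx : j p = x) (S : Finset (CotangentSpace (X.presheaf.stalk x)))
    (v : CotangentSpace (X.presheaf.stalk x))
    (hv : v ∈ Submodule.span (ResidueField (X.presheaf.stalk x)) (S : Set (CotangentSpace (X.presheaf.stalk x)))) :
    cotangentMapAt j p x hx v ∈ Submodule.span (ResidueField (W.presheaf.stalk p))
      ((cotangentMapAt j p x hx) '' (S : Set (CotangentSpace (X.presheaf.stalk x)))) := by
  induction hv using Submodule.span_induction with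
  | mem v hv => exact Submodule.subset_span ⟨v, hv, rfl⟩
  | zero => rw [map_zero]; exact Submodule.zero_mem _
  | add a b _ _ ha hb => rw [map_add]; exact Submodule.add_mem _ ha hb
  | smul c v _ hv =>
    obtain ⟨a, rfl⟩ := residue_surjective c
    rw [cot_smul]
    exact Submodule.smul_mem _ _ hv

theorem surjective_cot (i : V ⟶ Y) (q : V) (y : Y) (hy : i q = y)
    (hi : Function.Surjective (i.stalkMap q).hom) : Function.Surjective (cotangentMapAt i q y hy) := by
  subst hy
  intro v
  obtain ⟨m, rfl⟩ := Ideal.toCotangent_surjective _ v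
  obtain ⟨a, ha⟩ := hi m
  have ha' : a ∈ maximalIdeal (Y.presheaf.stalk (i q)) := by
    rw [mem_maximalIdeal, mem_nonunits_iff]
    intro hu
    have := hu.map (i.stalkMap q).hom
    rw [ha] at this
    exact m.2 this
  refine ⟨(maximalIdeal _).toCotangent ⟨a, ha'⟩, ?_⟩
  rw [cotangentMapAt_toCotangent]
  congr 1
  apply Subtype.ext
  dsimp only
  rw [stalkMapAt_rfl]
  exact ha

theorem finrank_le (g : W ⟶ V) (i : V ⟶ Y) (j : W ⟶ X) (f : X ⟶ Y) (w : g ≫ i = j ≫ f) (p : W)
    [IsNoetherianRing (V.presheaf.stalk (g p))]
    (hinj : Function.Injective (cotangentMapAt g p (g p) rfl))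
    (hres : Function.Surjective (g.residueFieldMap p).hom)
    (hi : Function.Surjective (i.stalkMap (g p)).hom) (x : X) (hx : j p = x)
    (S : Finset (CotangentSpace (X.presheaf.stalk x)))
    (hS : (LinearMap.range (cotangentMapAt f x (f x) rfl) : Set (CotangentSpace (X.presheaf.stalk x))) ⊆
      (Submodule.span (ResidueField (X.presheaf.stalk x)) (S : Set (CotangentSpace (X.presheaf.stalk x))) :
        Set (CotangentSpace (X.presheaf.stalk x)))) :
    Module.finrank (ResidueField (V.presheaf.stalk (g p))) (CotangentSpace (V.presheaf.stalk (g p))) ≤ S.card := by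
  classical
  have hy : i (g p) = f x := by
    rw [← Scheme.Hom.comp_apply, w, Scheme.Hom.comp_apply, hx]
  have hmem : ∀ v : CotangentSpace (V.presheaf.stalk (g p)), cotangentMapAt g p (g p) rfl v ∈
      Submodule.span (ResidueField (W.presheaf.stalk p))
      ((cotangentMapAt j p x hx) '' (S : Set (CotangentSpace (X.presheaf.stalk x)))) := by
    intro v
    obtain ⟨t, rfl⟩ := surjective_cot i (g p) (f x) hy hi v
    have e1 : (g ≫ i) p = f x := by rw [Scheme.Hom.comp_apply, hy]
    have e2 : (j ≫ f) p = f x := by rw [Scheme.Hom.comp_apply, hx]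
    rw [← cotangentMapAt_comp g i p (g p) (f x) rfl hy e1, cotangentMapAt_congr w p (f x) e1 e2,
      cotangentMapAt_comp j f p x (f x) hx rfl e2]
    exact span_map j p x hx S _ (hS ⟨t, rfl⟩)
  let b := Module.finBasis (ResidueField (V.presheaf.stalk (g p))) (CotangentSpace (V.presheaf.stalk (g p)))
  have hli : LinearIndependent (ResidueField (W.presheaf.stalk p)) (cotangentMapAt g p (g p) rfl ∘ b) := by
    let ρ : ResidueField (V.presheaf.stalk (g p)) → ResidueField (W.presheaf.stalk p) :=
      (g.residueFieldMap p).hom
    refine LinearIndependent.map_of_surjective_injectiveₛ (R' := ResidueField (W.presheaf.stalk p))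
      (M' := CotangentSpace (W.presheaf.stalk p))
      b.linearIndependent ρ
      (cotangentMapAt g p (g p) rfl).toAddMonoidHom hres hinj ?_
    intro c v
    obtain ⟨a, rfl⟩ := residue_surjective c
    change cotangentMapAt g p (g p) rfl (residue _ a • v) = _
    rw [cot_smul, stalkMapAt_rfl]
    rfl
  have h1 := linearIndependent_le_span_aux' (cotangentMapAt g p (g p) rfl ∘ b) hli
    (((cotangentMapAt j p x hx) '' (S : Set (CotangentSpace (X.presheaf.stalk x))))) (by
      rintro _ ⟨n, rfl⟩
      exact hmem _)
  rw [Fintype.card_fin] at h1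
  refine h1.trans ?_
  rw [← Set.toFinset_card, Set.toFinset_image]
  exact Finset.card_image_le.trans (by simp)

end K658.CotRank
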