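import Groth.Agent.Books.BorelOrb2
import Groth.Agent.Variety.K427.GenSmoothZero
import Groth.Agent.SGA3.K207.SmoothUnit
import Groth.Agent.S10929

/-!
# Smoothness of the translation map of a homogeneous space

`G` acts transitively on `X` (over an algebraically closed field of characteristic zero), `F : Y → X` a morphism with `Y`
smooth. Then `G × Y → X`, `(σ, y) ↦ σ F(y)`, is smooth.
-/

set_option autoImplicit false
universe u
open CategoryTheory CategoryTheory.Limits MonoidalCategory CartesianMonoidalCategory MonObj GrpObj AlgebraicGeometry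
open Groth.Agent.Books.BorelOrb TopologicalSpace

namespace K658.HomogMap

section Gen

variable {S : Scheme.{u}} {G X Y : Over S} [GrpObj G] (a : AlgGrp.Action G X) (F : Y ⟶ X)

/-- `(σ, y) ↦ σ F(y)`. -/
noncomputable def hm : G ⊗ Y ⟶ X := sm a (fst G Y) (snd G Y ≫ F)

/-- `(σ, y) ↦ (g σ, y)`. -/
noncomputable def τ (Y : Over S) (g : 𝟙_ (Over S) ⟶ G) : G ⊗ Y ⟶ G ⊗ Y := lift (fst G Y ≫ ltr g) (snd G Y)

theorem comp_ltr' {T : Over S} (t : T ⟶ G) (g : 𝟙_ (Over S) ⟶ G) : t ≫ ltr g = (toUnit T ≫ g) * t := by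
  rw [ltr, comp_tr, sm_leftAct]

theorem τ_hm (g : 𝟙_ (Over S) ⟶ G) : τ Y g ≫ hm a F = hm a F ≫ tr a g := by
  rw [hm, comp_sm, comp_tr, τ, lift_fst, ← Category.assoc, lift_snd, comp_ltr', mul_sm]

theorem ltr_mul (g h : 𝟙_ (Over S) ⟶ G) : ltr (g * h) = ltr h ≫ ltr g := tr_mul _ g h

theorem ltr_one : ltr (1 : 𝟙_ (Over S) ⟶ G) = 𝟙 G := tr_one _

theorem τ_mul (g h : 𝟙_ (Over S) ⟶ G) : τ Y (g * h) = τ Y h ≫ τ Y g := by
  ext1
  · simp only [τ, lift_fst, Category.assoc, ltr_mul, lift_fst_assoc]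
  · simp only [τ, lift_snd, Category.assoc]

theorem τ_one : τ Y (1 : 𝟙_ (Over S) ⟶ G) = 𝟙 (G ⊗ Y) := by
  ext1
  · simp only [τ, lift_fst, ltr_one, Category.comp_id, Category.id_comp]
  · simp only [τ, lift_snd, Category.id_comp]

theorem isIso_τ (g : 𝟙_ (Over S) ⟶ G) : IsIso (τ Y g) :=
  ⟨τ Y g⁻¹, by rw [← τ_mul, inv_mul_cancel, τ_one], by rw [← τ_mul, mul_inv_cancel, τ_one]⟩

end Gen

variable {k : Type u} [Field k] [IsAlgClosed k] {G X Y : Over (Spec (CommRingCat.of k))} [GrpObj G]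
  (a : AlgGrp.Action G X) (F : Y ⟶ X)

/-- The translates of a nonempty open subset of a homogeneous space cover it. -/
theorem iSup_preimage [LocallyOfFiniteType X.hom]
    (htrans : ∀ x x' : 𝟙_ (Over (Spec (CommRingCat.of k))) ⟶ X,
      ∃ σ : 𝟙_ (Over (Spec (CommRingCat.of k))) ⟶ G, CartesianMonoidalCategory.lift σ x ≫ a.act = x')
    (V : X.left.Opens) (hV : (V : Set X.left).Nonempty) :
    ⨆ g : 𝟙_ (Over (Spec (CommRingCat.of k))) ⟶ G, (tr a g).left ⁻¹ᵁ V = ⊤ := by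
  have hJ : JacobsonSpace X.left := LocallyOfFiniteType.jacobsonSpace X.hom
  by_contra hne
  let O : X.left.Opens := ⨆ g : 𝟙_ (Over (Spec (CommRingCat.of k))) ⟶ G, (tr a g).left ⁻¹ᵁ V
  have hO : ((O : Set X.left)ᶜ).Nonempty := by
    rw [Set.nonempty_compl]
    intro h
    exact hne (Opens.ext h)
  obtain ⟨c, hc1, hc2⟩ := nonempty_inter_closedPoints (Z := (O : Set X.left)ᶜ) hO
    O.isOpen.isClosed_compl.isLocallyClosed
  obtain ⟨w, hw1, hw2⟩ := nonempty_inter_closedPoints hV V.isOpen.isLocallyClosed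
  obtain ⟨c', hc'⟩ := Groth.Agent.Books.BorelOrb2.exists_section X c hc2
  obtain ⟨w', hw'⟩ := Groth.Agent.Books.BorelOrb2.exists_section X w hw2
  apply hc1
  simp only [O, SetLike.mem_coe, Opens.mem_iSup]
  obtain ⟨σ, hσ⟩ := htrans c' w'
  refine ⟨σ, ?_⟩
  have h : c' ≫ tr a σ = w' := by
    rw [comp_tr, toUnit_unique (toUnit (𝟙_ (Over (Spec (CommRingCat.of k))))) (𝟙 _), Category.id_comp]
    exact hσ
  have h2 := congrArg (fun f => f.left (IsLocalRing.closedPoint k)) h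
  simp only [Over.comp_left, Scheme.Hom.comp_apply, hc', hw'] at h2
  change (tr a σ).left c ∈ V
  rw [h2]
  exact hw1

omit [IsAlgClosed k] [GrpObj G] in
theorem smooth_tensor [Smooth G.hom] [Smooth Y.hom] : Smooth (G ⊗ Y).hom := by
  change Smooth (pullback.fst G.hom Y.hom ≫ G.hom)
  infer_instance

omit [IsAlgClosed k] [GrpObj G] in
theorem quasiCompact_tensor [QuasiCompact G.hom] [QuasiCompact Y.hom] : QuasiCompact (G ⊗ Y).hom := by
  change QuasiCompact (pullback.fst G.hom Y.hom ≫ G.hom)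
  infer_instance

theorem smooth_restrict_comp {A B C : Scheme.{u}} (t : A ⟶ B) [IsIso t] (h : B ⟶ C) (V : C.Opens)
    (hs : Smooth (h ∣_ V)) : Smooth ((t ≫ h) ∣_ V) := by
  rw [morphismRestrict_comp]
  change Smooth ((t ∣_ (h ⁻¹ᵁ V)) ≫ (h ∣_ V))
  have h1 : IsIso (t ∣_ (h ⁻¹ᵁ V)) := inferInstance
  have h2 : Smooth (t ∣_ (h ⁻¹ᵁ V)) := inferInstance
  exact MorphismProperty.comp_mem @Smooth _ _ h2 hs

theorem smooth_restrict_of_comp {A B C : Scheme.{u}} (h : A ⟶ B) (t : B ⟶ C) [IsIso t] (V : C.Opens)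
    (hs : Smooth ((h ≫ t) ∣_ V)) : Smooth (h ∣_ (t ⁻¹ᵁ V)) := by
  rw [morphismRestrict_comp] at hs
  exact (MorphismProperty.cancel_right_of_respectsIso @Smooth _ _).1 hs

/-- `(σ, y) ↦ σ F(y)` is smooth. -/
theorem smooth_hm [CharZero k] [Smooth G.hom] [QuasiCompact G.hom] [Smooth Y.hom] [QuasiCompact Y.hom]
    [IsIntegral X.left] [LocallyOfFiniteType X.hom]
    (htrans : ∀ x x' : 𝟙_ (Over (Spec (CommRingCat.of k))) ⟶ X,
      ∃ σ : 𝟙_ (Over (Spec (CommRingCat.of k))) ⟶ G, CartesianMonoidalCategory.lift σ x ≫ a.act = x') :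
    Smooth (hm a F).left := by
  have h1 : Smooth (G ⊗ Y).hom := smooth_tensor
  have h2 : QuasiCompact (G ⊗ Y).hom := quasiCompact_tensor
  obtain ⟨V, hV, hsm⟩ := K427.GenSmooth.exists_open_smooth_preimage k (G ⊗ Y).hom X.hom (hm a F).left
    (Over.w _)
  have hcov := iSup_preimage a htrans V hV
  rw [IsZariskiLocalAtTarget.iff_of_iSup_eq_top (P := @Smooth) _ hcov]
  intro g
  have hi : IsIso (tr a g).left := ((Over.forget _).mapIso (trIso a g)).isIso_hom
  have hj : IsIso (τ Y g) := isIso_τ g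
  have hj' : IsIso (τ Y g).left := ((Over.forget _).mapIso (asIso (τ Y g))).isIso_hom
  refine smooth_restrict_of_comp _ _ V ?_
  have e : (hm a F).left ≫ (tr a g).left = (τ Y g).left ≫ (hm a F).left := by
    rw [← Over.comp_left, ← Over.comp_left, τ_hm]
  rw [e]
  exact smooth_restrict_comp _ _ V hsm

/-- A homogeneous space over an algebraically closed field of characteristic zero is smooth. -/
theorem smooth_of_homogeneous [CharZero k] [IsIntegral X.left] [LocallyOfFiniteType X.hom] [QuasiCompact X.hom]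
    (htrans : ∀ x x' : 𝟙_ (Over (Spec (CommRingCat.of k))) ⟶ X,
      ∃ σ : 𝟙_ (Over (Spec (CommRingCat.of k))) ⟶ G, CartesianMonoidalCategory.lift σ x ≫ a.act = x') :
    Smooth X.hom := by
  obtain ⟨U, hU, hsm⟩ := Groth.Agent.S10929.result k X.hom (𝟙 (Spec (CommRingCat.of k))) X.hom
    (Category.comp_id _) (by
      intro z
      rw [Subsingleton.elim z (X.hom (Classical.arbitrary X.left))]
      exact subset_closure ⟨_, rfl⟩)
  have hcov := iSup_preimage a htrans U hU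
  rw [IsZariskiLocalAtSource.iff_of_iSup_eq_top (P := @Smooth) _ hcov]
  intro g
  have hi : IsIso (tr a g).left := ((Over.forget _).mapIso (trIso a g)).isIso_hom
  have h1 : X.hom = (tr a g).left ≫ X.hom := (Over.w _).symm
  have h2 : ((tr a g).left ⁻¹ᵁ U).ι ≫ X.hom = ((tr a g).left ∣_ U) ≫ U.ι ≫ X.hom := by
    rw [morphismRestrict_ι_assoc, ← h1]
  rw [h2]
  infer_instance

end K658.HomogMap
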